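import Cfsg.Agent.E8MinDeg.Line

/-!
A representation of small degree has a vector fixed by all positive root subgroups: otherwise the
translates of the fixed space of one maximal parabolic radical of the `A₂` at the end of the diagram
would be too many.
-/

set_option autoImplicit false
set_option linter.style.haveILetI false
set_option linter.unusedSectionVars false

namespace CfsgLib.E8MinDeg

open Cfsg.Lie CfsgLib.Chev CfsgLib.Chev.Tab Module CfsgLib.MinDeg

/-- The positive roots outside the `A₂` at the end of the diagram. -/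
def radA : List ℕ := posL.filter fun x => x != 120 && x != 121 && x != 122

theorem sR_7 : sR 7 = 120 := by decide +kernel

theorem sR_6 : sR 6 = 121 := by decide +kernel

theorem chk_radA :
    (Mov 120 radA ∧ Mov 121 radA ∧ Mov 122 radA ∧ Mov 118 radA ∧ Mov 117 radA) ∧
    (Mov 122 radA ∧ Mov 120 (122 :: radA) ∧ 122 ∉ radA ∧ 120 ∉ 122 :: radA ∧
      ∀ x ∈ 122 :: radA, sgnR 120 x = 0 ∨ tgtR 120 x ∈ 122 :: radA) ∧
    (Mov 121 (120 :: 122 :: radA) ∧ sgnR 121 122 = 0 ∧ tgtR 121 120 = 122 ∧ sgnR 121 120 ≠ 0 ∧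
      ∀ x ∈ radA, sgnR 121 x = 0 ∨ tgtR 121 x ∈ radA) ∧
    (∀ x ∈ 121 :: 120 :: 122 :: radA, x < 240 ∧ x ≠ 239 - 121 ∧
      (sgnR 121 x = 0 ∨ (tgtR 121 x ∈ 120 :: 122 :: radA ∧ tgtR 121 x ≠ 120))) ∧
    (∀ x, x ∈ 121 :: 120 :: 122 :: radA ↔ x ∈ posL) ∧ 121 ∉ 120 :: 122 :: radA := by
  refine ⟨by decide +kernel, by decide +kernel, by decide +kernel, by decide +kernel, fun x => ?_,
    by decide +kernel⟩
  exact ⟨fun h => (by decide +kernel : ∀ y ∈ 121 :: 120 :: 122 :: radA, y ∈ posL) x h,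
    fun h => (by decide +kernel : ∀ y ∈ posL, y ∈ 121 :: 120 :: 122 :: radA) x h⟩

theorem chk_radY :
    (∀ y ∈ 120 :: 122 :: radA, ∃ x ∈ 120 :: 122 :: radA, T8.reflT 6 x = y ∧ (y = 120 ↔ x = 122)) ∧
    (∀ y ∈ 120 :: radA, ∃ x ∈ 121 :: 122 :: radA, T8.reflT 6 x = y) ∧
    (∀ y ∈ 121 :: 122 :: radA, ∃ x ∈ 121 :: 122 :: radA, T8.reflT 7 x = y) ∧
    (∀ y ∈ radA, ∃ x ∈ radA, T8.reflT 7 x = y) ∧
    (∀ r ∈ [120, 119], Mov r (121 :: 122 :: radA)) ∧
    (T8.reflT 7 121 = 122 ∧ T8.reflT 7 122 = 121 ∧ T8.reflT 7 117 = 118 ∧ T8.reflT 6 117 = 119 ∧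
      T8.reflT 7 118 = 117 ∧ T8.reflT 6 118 = 121 ∧ T8.reflT 6 119 = 117 ∧ T8.reflT 6 121 = 118) ∧
    (120 ∉ 121 :: 122 :: radA ∧ ∀ x ∈ [120] ++ (121 :: 122 :: radA), x < 240 ∧ x ≠ 239 - 120 ∧
      (sgnR 120 x = 0 ∨ tgtR 120 x ∈ 121 :: 122 :: radA)) ∧
    (tgtR 120 121 = 122 ∧ sgnR 120 122 = 0 ∧ tgtR 119 122 = 121 ∧ sgnR 119 121 = 0 ∧ sgnR 121 122 = 0 ∧
      tgtR 120 117 = 118 ∧ sgnR 120 117 ≠ 0 ∧ sgnR 118 117 = 0) := by decide +kernel

variable {F : Type*} [Field F] [Fintype F] {V : Type*} [AddCommGroup V] [Module ℂ V]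
  [FiniteDimensional ℂ V] (ρ : Representation ℂ (chevE8.group F) V)

/-- The sum over the radical `⟨α₃, α₁ + α₃⟩`. -/
noncomputable def avgA : V →ₗ[ℂ] V := ∑ p : F × F, ρ (xg 121 p.1 * xg 122 p.2)

theorem avgA_apply (v : V) : avgA ρ v = ∑ p : F × F, ρ (xg 121 p.1 * xg 122 p.2) v := by
  simp [avgA, LinearMap.sum_apply]

theorem avgA_comm {g : chevE8.group F} (φ : F × F ≃ F × F)
    (h : ∀ p : F × F, xg 121 p.1 * xg 122 p.2 * g = g * (xg 121 (φ p).1 * xg 122 (φ p).2)) (v : V) :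
    avgA ρ (ρ g v) = ρ g (avgA ρ v) := by
  rw [avgA_apply, avgA_apply, map_sum]
  refine Fintype.sum_equiv φ _ _ fun p => ?_
  rw [← Module.End.mul_apply, ← map_mul, h, map_mul, Module.End.mul_apply]

theorem avgA_comm56 (z : F) (v : V) : avgA ρ (ρ (xg 120 z) v) = ρ (xg 120 z) (avgA ρ v) := by
  obtain ⟨-, -, -, -, -, -, -, h1, h2, -⟩ := chk_radY
  refine avgA_comm ρ
    { toFun := fun p => (p.1, -((sgnR 120 121 : F) * z * p.1) + p.2)
      invFun := fun p => (p.1, (sgnR 120 121 : F) * z * p.1 + p.2)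
      left_inv := fun p => by simp
      right_inv := fun p => by simp } (fun p => ?_) v
  rw [mul_assoc, xg_comm (r := 120) (s := 122) (by norm_num) (by norm_num) (by norm_num) h2,
    ← mul_assoc, xg_swap (r := 120) (s := 121) (by norm_num) (by norm_num) (by norm_num), h1]
  show _ = xg 120 z * (xg 121 p.1 * xg 122 (-((sgnR 120 121 : F) * z * p.1) + p.2))
  rw [← xg_add]
  group

theorem avgA_comm15 (z : F) (v : V) : avgA ρ (ρ (xg 119 z) v) = ρ (xg 119 z) (avgA ρ v) := by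
  obtain ⟨-, -, -, -, -, -, -, -, -, h1, h2, h3, -⟩ := chk_radY
  refine avgA_comm ρ
    { toFun := fun p => (-((sgnR 119 122 : F) * z * p.2) + p.1, p.2)
      invFun := fun p => ((sgnR 119 122 : F) * z * p.2 + p.1, p.2)
      left_inv := fun p => by simp
      right_inv := fun p => by simp } (fun p => ?_) v
  rw [mul_assoc, xg_swap (r := 119) (s := 122) (by norm_num) (by norm_num) (by norm_num), h1,
    ← mul_assoc, xg_comm (r := 119) (s := 121) (by norm_num) (by norm_num) (by norm_num) h2]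
  show _ = xg 119 z * (xg 121 (-((sgnR 119 122 : F) * z * p.2) + p.1) * xg 122 p.2)
  rw [add_comm, ← xg_add,
    xg_comm (F := F) (r := 121) (s := 122) (by norm_num) (by norm_num) (by norm_num) h3
      (-((sgnR 119 122 : F) * z * p.2)) p.2]
  group

theorem avgA_comm7 (v : V) : avgA ρ (ρ (nF 7) v) = ρ (nF 7) (avgA ρ v) := by
  obtain ⟨-, -, -, -, -, ⟨h1, h2, -⟩, -, -, -, -, -, h3, -⟩ := chk_radY
  obtain ⟨c, hc, hc'⟩ := nT_act (7 : Fin 8) (s := 121) (by norm_num) (one_ne_zero (α := F))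
  obtain ⟨d, hd, hd'⟩ := nT_act (7 : Fin 8) (s := 122) (by norm_num) (one_ne_zero (α := F))
  rw [show ((7 : Fin 8) : ℕ) = 7 from rfl, h1] at hc'
  rw [show ((7 : Fin 8) : ℕ) = 7 from rfl, h2] at hd'
  refine avgA_comm ρ
    { toFun := fun p => (c⁻¹ * p.2, d⁻¹ * p.1)
      invFun := fun p => (d * p.2, c * p.1)
      left_inv := fun p => by simp [mul_inv_cancel_left₀ hc, mul_inv_cancel_left₀ hd]
      right_inv := fun p => by simp [inv_mul_cancel_left₀ hc, inv_mul_cancel_left₀ hd] }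
    (fun p => ?_) v
  show xg 121 p.1 * xg 122 p.2 * nF 7 = nF 7 * (xg 121 (c⁻¹ * p.2) * xg 122 (d⁻¹ * p.1))
  have e1 := hc' (c⁻¹ * p.2)
  have e2 := hd' (d⁻¹ * p.1)
  rw [mul_inv_eq_iff_eq_mul, mul_inv_cancel_left₀ hc] at e1
  rw [mul_inv_eq_iff_eq_mul, mul_inv_cancel_left₀ hd] at e2
  rw [← mul_assoc]
  show _ = nT 7 1 * _ * _
  rw [e1, mul_assoc (xg 122 p.2), e2, ← mul_assoc,
    ← xg_comm (r := 121) (s := 122) (by norm_num) (by norm_num) (by norm_num) h3]
  rfl

theorem avgA_absorb42 (z : F) (v : V) : avgA ρ (ρ (xg 121 z) v) = avgA ρ v := by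
  obtain ⟨-, -, -, -, -, -, -, -, -, -, -, h3, -⟩ := chk_radY
  rw [avgA_apply, avgA_apply]
  refine Fintype.sum_equiv ((Equiv.addRight z).prodCongr (Equiv.refl F)) _ _ fun p => ?_
  show ρ (xg 121 p.1 * xg 122 p.2) (ρ (xg 121 z) v) = ρ (xg 121 (p.1 + z) * xg 122 p.2) v
  rw [← Module.End.mul_apply, ← map_mul, mul_assoc,
    xg_comm (r := 121) (s := 122) (by norm_num) (by norm_num) (by norm_num) h3, ← mul_assoc, xg_add]

theorem avgA_shift (r : ℕ) (hr : r = 121 ∨ r = 122) (z : F) (v : V) :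
    ρ (xg r z) (avgA ρ v) = avgA ρ v := by
  obtain ⟨-, -, -, -, -, -, -, -, -, -, -, h3, -⟩ := chk_radY
  rw [avgA_apply, map_sum]
  rcases hr with rfl | rfl
  · refine Fintype.sum_equiv ((Equiv.addLeft z).prodCongr (Equiv.refl F)) _ _ fun p => ?_
    show ρ (xg 121 z) (ρ (xg 121 p.1 * xg 122 p.2) v) = ρ (xg 121 (z + p.1) * xg 122 p.2) v
    rw [← Module.End.mul_apply, ← map_mul, ← mul_assoc, xg_add]
  · refine Fintype.sum_equiv ((Equiv.refl F).prodCongr (Equiv.addLeft z)) _ _ fun p => ?_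
    show ρ (xg 122 z) (ρ (xg 121 p.1 * xg 122 p.2) v) = ρ (xg 121 p.1 * xg 122 (z + p.2)) v
    rw [← Module.End.mul_apply, ← map_mul, ← mul_assoc,
      xg_comm (r := 121) (s := 122) (by norm_num) (by norm_num) (by norm_num) h3, mul_assoc, xg_add]

/-- The element of the opposite radical. -/
noncomputable def oppA (p : F × F) : chevE8.group F := xg 118 p.1 * xg 117 p.2

theorem oppA_sub (p p' : F × F) : (oppA p')⁻¹ * oppA p = oppA (p - p') := by
  obtain ⟨-, -, -, -, -, -, -, -, -, -, -, -, -, -, h4⟩ := chk_radY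
  have hc : ∀ a b : F, xg 117 b * xg 118 a = xg 118 a * xg 117 b := fun a b =>
    xg_comm (r := 118) (s := 117) (by norm_num) (by norm_num) (by norm_num) h4 a b
  rw [oppA, oppA, oppA, mul_inv_rev, xg_inv, xg_inv, mul_assoc, ← mul_assoc (xg 118 (-p'.1)),
    xg_add, ← mul_assoc, hc, mul_assoc, xg_add]
  simp [sub_eq_add_neg, add_comm]

variable {ρ} {ψ : AddChar F ℂ} (H : Small ρ ψ)
include H

theorem Small.line_slice {a : F} (ha : a ≠ 0) :
    dW ρ ψ (120 :: 122 :: radA) (dl 120 a) ≤ 1 := by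
  obtain ⟨-, -, -, h42, hpos, -⟩ := chk_radA
  refine le_trans (Submodule.finrank_mono
    (induct_slices ρ ψ H.prim (X := [121]) (S := 120 :: 122 :: radA) (P := dl 120 a)
      (fun r hr => ?_) (S0 := W ρ ψ posL (dl 120 a)) fun P hP => ?_)) (by
        have := H.U_le 7 ha
        rwa [sR_7] at this)
  · rw [List.mem_singleton] at hr
    subst hr
    exact ⟨by norm_num, fun x hx => ⟨(h42 x hx).1, (h42 x hx).2.1,
      (h42 x hx).2.2.imp id fun h => ⟨h.1, dl_ne _ h.2⟩⟩⟩
  · rcases eq_or_ne (P 121) 0 with h0 | h0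
    · refine W_mono ρ ψ fun x hx => ⟨(hpos x).2 hx, ?_⟩
      rcases List.mem_cons.1 ((hpos x).2 hx) with rfl | h
      · rw [h0, dl_ne _ (by norm_num)]
      · exact (hP x h).symm
    · refine le_trans (W_mono ρ ψ (S' := posL) (P' := dl2 120 a 121 (P 121))
        fun x hx => ⟨(hpos x).2 hx, ?_⟩) (by
          have := H.pair2_bot (i := 7) (j := 6) (by decide) ha h0
          rw [sR_7, sR_6] at this
          rw [this]
          exact bot_le)
      rcases List.mem_cons.1 ((hpos x).2 hx) with rfl | h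
      · rw [dl2, if_neg (by norm_num), if_pos rfl]
      · have h' : x ≠ 121 := fun e => chk_radA.2.2.2.2.2 (e ▸ h)
        rw [hP x h]
        simp only [dl, dl2, if_neg h']

theorem Small.fixed_ne : W ρ ψ posL (fun _ => (0 : F)) ≠ ⊥ := by
  classical
  intro hbot
  set q := Fintype.card F with hq
  have hq2 : 2 ≤ q := Fintype.one_lt_card
  obtain ⟨⟨hm56, hm42, hm57, hm29, hm14⟩, ⟨-, hM56, hn57, hn56, h56⟩,
    ⟨hM42, h4257, ht4256, hs4256, h42r⟩, hX42, hpos, hn42⟩ := chk_radA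
  obtain ⟨hp2, hp2', hp0, hp0r, hMY, ⟨-, -, r0_14, r2_14, r0_29, r2_29, r2_15, r2_42⟩,
    ⟨h56Y, hX56⟩, ⟨-, -, -, -, -, ht5614, hs5614, hc2914⟩⟩ := chk_radY
  set Z : ℕ → F := fun _ => 0 with hZ
  set W2 := W ρ ψ radA Z with hW2
  set Y := W ρ ψ (121 :: 122 :: radA) Z with hY
  -- the upper bound
  have hR0 : dW ρ ψ (120 :: 122 :: radA) Z ≤ q - 1 := by
    rw [← sum_one ρ ψ H.prim hM42 (fun x _ => Or.inr rfl) hn42,
      ← Finset.add_sum_erase Finset.univ _ (Finset.mem_univ (0 : F))]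
    have h0 : dW ρ ψ (121 :: 120 :: 122 :: radA) (Function.update Z 121 0) = 0 := by
      refine Submodule.finrank_eq_zero.2 (le_bot_iff.1 (le_trans (W_mono ρ ψ fun x hx =>
        ⟨(hpos x).2 hx, ?_⟩) hbot.le))
      simp [hZ, Function.update_apply]
    rw [h0, zero_add]
    refine le_trans (Finset.sum_le_card_nsmul _ _ 1 fun c hc => ?_) (by simp [hq])
    refine le_trans (Submodule.finrank_mono (W_mono ρ ψ fun x hx => ⟨(hpos x).2 hx, ?_⟩))
      (H.U_le 6 (Finset.ne_of_mem_erase hc))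
    rw [sR_6]
    simp [hZ, dl, Function.update_apply]
  have hRb : ∀ a b : F, b ≠ 0 →
      dW ρ ψ (120 :: 122 :: radA) (Function.update (Function.update Z 122 b) 120 a) ≤ 1 := by
    intro a b hb
    set P := Function.update (Function.update Z 122 b) 120 a with hP
    have hc : (sgnR 121 120 : F) ≠ 0 :=
      sgn_cast_ne (by norm_num) (by norm_num) (by norm_num) hs4256
    refine le_trans (dW_le_of_maps ρ ψ (xg 121 (a / ((sgnR 121 120 : F) * b))) fun v hv =>
      translate ρ ψ hM42 _ hv) ?_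
    set P1 := mv 121 (a / ((sgnR 121 120 : F) * b)) P with hP1
    have hP1' : ∀ x ∈ 120 :: 122 :: radA, P1 x = dl 122 b x := by
      intro x hx
      rcases List.mem_cons.1 hx with rfl | hx
      · rw [hP1, mv, ht4256, dl_ne _ (by norm_num), hP, Function.update_self,
          Function.update_of_ne (by norm_num), Function.update_self]
        field_simp
        ring
      rcases List.mem_cons.1 hx with rfl | hx'
      · simp [hP1, mv, h4257, hP, dl, Function.update_apply]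
      · have e1 : x ≠ 122 := fun e => hn57 (e ▸ hx')
        have e2 : x ≠ 120 := fun e => hn56 (e ▸ List.mem_cons_of_mem _ hx')
        rcases h42r x hx' with h | h
        · simp [hP1, mv, h, hP, dl, Function.update_apply, e1, e2, hZ]
        · have e3 : tgtR 121 x ≠ 122 := fun e => hn57 (e ▸ h)
          have e4 : tgtR 121 x ≠ 120 := fun e => hn56 (e ▸ List.mem_cons_of_mem _ h)
          simp [hP1, mv, hP, dl, Function.update_apply, e1, e2, e3, e4, hZ]
    rw [dW_congr ρ ψ hP1']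
    obtain ⟨c, hc0, hc'⟩ := nT_act (6 : Fin 8) (s := 122) (by norm_num) (one_ne_zero (α := F))
    refine le_trans (dW_le_of_maps ρ ψ (nF 6) fun v hv => maps_W ρ ψ (S' := 120 :: 122 :: radA)
      (P' := dl 120 (b / c)) _ (fun y hy => ?_) hv) (H.line_slice (div_ne_zero hb hc0))
    obtain ⟨x, hx, hxy, hiff⟩ := hp2 y hy
    obtain ⟨d, hd, hd'⟩ := nT_act (6 : Fin 8) (s := x) (hM42.2 x hx).1 (one_ne_zero (α := F))
    refine ⟨x, hx, d, hd, fun u => hxy ▸ hd' u, ?_⟩
    by_cases hx57 : x = 122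
    · subst hx57
      have e := (hd' 1).symm.trans (hc' 1)
      have hinj : d = c := by
        have := congrArg (fun g : chevE8.group F => (g : GL chevE8.Idx F)) e
        simp only [coe_xg, mul_one] at this
        have hz : good_E8.full.x (T8.reflT ((6 : Fin 8) : ℕ) 122) (d - c) = 1 := by
          rw [sub_eq_add_neg, ← good_E8.full.x_add, this, ← good_E8.full.x_inv, mul_inv_cancel]
        exact sub_eq_zero.1 (good_E8.x_eq_one (good_E8.full.reflT_spec (6 : Fin 8).isLt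
          (show 122 < 240 by norm_num)).1 hz)
      subst hinj
      rw [hiff.2 rfl, dl_self, dl_self, div_mul_cancel₀ _ hd]
    · rw [dl_ne _ fun e => hx57 (hiff.1 e), dl_ne _ hx57, zero_mul]
  have hW2le : finrank ℂ W2 ≤ (q - 1) * q + ((q - 1) + (q - 1)) := by
    show dW ρ ψ radA Z ≤ _
    rw [← sum_one ρ ψ H.prim hm57 (fun x _ => Or.inr rfl) hn57,
      ← Finset.add_sum_erase Finset.univ _ (Finset.mem_univ (0 : F)), add_comm ((q - 1) * q)]
    refine Nat.add_le_add ?_ ?_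
    · rw [dW_congr ρ ψ (P' := Z) fun x _ => by simp [hZ, Function.update_apply],
        ← sum_one ρ ψ H.prim hM56 (fun x _ => Or.inr rfl) hn56,
        ← Finset.add_sum_erase Finset.univ _ (Finset.mem_univ (0 : F))]
      refine Nat.add_le_add (le_trans (le_of_eq ?_) hR0)
        (le_trans (Finset.sum_le_card_nsmul _ _ 1 fun a ha => ?_) (by simp [hq]))
      · exact dW_congr ρ ψ fun x _ => by simp [hZ, Function.update_apply]
      · rw [dW_congr ρ ψ (P' := dl 120 a) fun x _ => by simp [hZ, dl, Function.update_apply]]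
        exact H.line_slice (Finset.ne_of_mem_erase ha)
    · refine le_trans (Finset.sum_le_card_nsmul _ _ q fun b hb => ?_) (by simp [hq])
      rw [← sum_one ρ ψ H.prim hM56 (fun x hx => (h56 x hx).imp id fun h => ?_) hn56]
      · exact le_trans (Finset.sum_le_card_nsmul _ _ 1 fun a _ =>
          hRb a b (Finset.ne_of_mem_erase hb)) (by simp [hq])
      · have : tgtR 120 x ≠ 122 := by
          intro e
          have h57 := (by decide +kernel : ∀ x ∈ 122 :: radA, sgnR 120 x = 0 ∨ tgtR 120 x ≠ 122) x hx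
          rcases h57 with h' | h'
          · exact absurd e ((by decide +kernel : ∀ x ∈ 122 :: radA, sgnR 120 x = 0 → tgtR 120 x ≠ 122)
              x hx h')
          · exact h' e
        simp [hZ, Function.update_apply, this]
  -- the fixed space of the other radical
  have hYdim : q - 1 ≤ finrank ℂ Y := by
    have key := card_mul_le ρ ψ H.prim (X := [120]) (S := 121 :: 122 :: radA) (P := Z)
      (fun r hr => ?_) (List.nodup_singleton _) (fun x hx => by
        rw [List.mem_singleton] at hx; subst hx; exact h56Y)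
      (fun a : Fˣ => dl 120 (a : F)) (m := 1) (fun a x hx => dl_ne _ fun e => h56Y (e ▸ hx))
      (fun a b h => Units.ext (by simpa [dl] using h 120 (List.mem_singleton_self _))) fun a => ?_
    · rwa [mul_one, Fintype.card_units] at key
    · rw [List.mem_singleton] at hr
      subst hr
      exact ⟨by norm_num, fun x hx => ⟨(hX56 x hx).1, (hX56 x hx).2.1,
        (hX56 x hx).2.2.imp id fun h => ⟨h, rfl⟩⟩⟩
    · obtain ⟨v, hv, hv0⟩ := Submodule.exists_mem_ne_zero_of_ne_bot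
        (sR_7 ▸ H.U_ne 7 a.ne_zero : W ρ ψ posL (dl 120 (a : F)) ≠ ⊥)
      refine one_le_dW ρ ψ (W_mono ρ ψ (S := posL) (fun x hx => ⟨?_, rfl⟩) hv) hv0
      exact (by decide +kernel : ∀ y ∈ [120] ++ (121 :: 122 :: radA), y ∈ posL) x hx
  -- the averaging kills the translates
  have hfix : ∀ {x : ℕ}, x ∈ 121 :: 122 :: radA → ∀ {y : V}, y ∈ Y → ∀ u, ρ (xg x u) y = y :=
    fun {x} hx {y} hy u => by simpa [hZ] using (mem_W ρ ψ).1 hy x hx u
  have hpY : ∀ r ∈ [120, 119], ∀ (u : F), ∀ y ∈ Y, ρ (xg r u) y ∈ Y := fun r hr u y hy =>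
    preserve ρ ψ (hMY r hr) u (fun _ _ => Or.inr rfl) hy
  have hn2 : ∀ t : F, t ≠ 0 → ∀ y ∈ Y, avgA ρ (ρ (nT 6 t) y) = 0 := by
    intro t ht y hy
    have hz : ρ (nT 6 t) y ∈ W ρ ψ (120 :: radA) Z := maps_W ρ ψ _ (fun x hx => by
      obtain ⟨x', hx', hxx⟩ := hp2' x hx
      obtain ⟨d, hd, hd'⟩ := nT_act (6 : Fin 8) (s := x') ((hMY 120 (by simp)).2 x' hx').1 ht
      exact ⟨x', hx', d, hd, fun u => hxx ▸ hd' u, by simp [hZ]⟩) hy
    set z := ρ (nT 6 t) y
    refine (Submodule.eq_bot_iff _).1 hbot _ ((mem_W ρ ψ).2 fun x hx u => ?_)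
    rw [hZ, zero_mul, AddChar.map_zero_eq_one, one_smul]
    rcases List.mem_cons.1 ((hpos x).2 hx) with rfl | hx
    · exact avgA_shift ρ 121 (Or.inl rfl) u z
    rcases List.mem_cons.1 hx with rfl | hx
    · rw [← avgA_comm56, show ρ (xg 120 u) z = z by
        simpa [hZ] using (mem_W ρ ψ).1 hz 120 (by simp) u]
    rcases List.mem_cons.1 hx with rfl | hx
    · exact avgA_shift ρ 122 (Or.inr rfl) u z
    · have hzr : z ∈ W ρ ψ radA Z :=
        W_mono ρ ψ (fun y hy => ⟨List.mem_cons_of_mem _ hy, rfl⟩) hz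
      have hmem : avgA ρ z ∈ W ρ ψ radA Z := by
        rw [avgA_apply]
        refine Submodule.sum_mem _ fun p _ => ?_
        rw [map_mul, Module.End.mul_apply]
        exact preserve ρ ψ hm42 _ (fun _ _ => Or.inr rfl)
          (preserve ρ ψ hm57 _ (fun _ _ => Or.inr rfl) hzr)
      simpa [hZ] using (mem_W ρ ψ).1 hmem x hx u
  have h29 : ∀ p : F, p ≠ 0 → ∀ y ∈ Y, avgA ρ (ρ (xg 118 p) y) = 0 := by
    intro p hp y hy
    have e : xg 118 p = xg 121 (p⁻¹) * nT 6 (-p⁻¹) * xg 121 (p⁻¹) := by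
      rw [nT_def, show chevE8.simple ((6 : Fin 8) : ℕ) = 121 by decide +kernel]
      simp only [inv_neg, inv_inv, neg_neg, mul_assoc, xg_add, neg_add_cancel, xg_zero, mul_one]
      simp [← mul_assoc, xg_add, xg_zero]
    rw [e, map_mul, map_mul, Module.End.mul_apply, Module.End.mul_apply,
      hfix (List.mem_cons_self ..) hy, avgA_absorb42, hn2 _ (by simp [hp]) y hy]
  have hn0Y : ∀ y ∈ Y, ρ (nF 7) y ∈ Y := fun y hy => maps_W ρ ψ _ (fun x hx => by
    obtain ⟨x', hx', hxx⟩ := hp0 x hx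
    obtain ⟨d, hd, hd'⟩ := nT_act (7 : Fin 8) (s := x') ((hMY 120 (by simp)).2 x' hx').1
      (one_ne_zero (α := F))
    exact ⟨x', hx', d, hd, fun u => hxx ▸ hd' u, by simp [hZ]⟩) hy
  have h14 : ∀ r : F, r ≠ 0 → ∀ y ∈ Y, avgA ρ (ρ (xg 117 r) y) = 0 := by
    intro r hr y hy
    obtain ⟨d, hd, hd'⟩ := nT_act (7 : Fin 8) (s := 117) (by norm_num) (one_ne_zero (α := F))
    rw [show ((7 : Fin 8) : ℕ) = 7 from rfl, r0_14] at hd'
    have e : avgA ρ (ρ (nF 7) (ρ (xg 117 r) y)) = 0 := by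
      rw [← Module.End.mul_apply (ρ (nF 7)), ← map_mul,
        show nF 7 * xg 117 r = xg 118 (d * r) * nF 7 from
        mul_inv_eq_iff_eq_mul.1 (hd' r), map_mul, Module.End.mul_apply]
      exact h29 _ (mul_ne_zero hd hr) _ (hn0Y y hy)
    rw [avgA_comm7] at e
    by_contra h
    exact rho_inj ρ h e
  have hopp : ∀ p : F × F, p ≠ 0 → ∀ y ∈ Y, avgA ρ (ρ (oppA p) y) = 0 := by
    rintro ⟨p, r⟩ hpr y hy
    by_cases hr : r = 0
    · subst hr
      rw [oppA, xg_zero, mul_one]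
      exact h29 p (fun e => hpr (by rw [e]; rfl)) y hy
    · have hs := sgn_cast_ne (F := F) (r := 120) (x := 117) (by norm_num) (by norm_num) (by norm_num)
        hs5614
      set z := p / ((sgnR 120 117 : F) * r) with hz
      have e : oppA (p, r) = xg 120 z * xg 117 r * xg 120 (-z) := by
        rw [mul_assoc, xg_swap (r := 120) (s := 117) (by norm_num) (by norm_num) (by norm_num),
          ht5614, ← mul_assoc, xg_add, add_neg_cancel, xg_zero, one_mul,
          xg_comm (r := 118) (s := 117) (by norm_num) (by norm_num) (by norm_num) hc2914,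
          show -((sgnR 120 117 : F) * -z * r) = p by rw [hz]; field_simp]
        rfl
      rw [e, map_mul, map_mul, Module.End.mul_apply, Module.End.mul_apply, avgA_comm56,
        h14 r hr _ (hpY 120 (by simp) _ y hy), map_zero]
  have hn : ∀ (p : F × F), ∀ y ∈ Y, avgA ρ (ρ (oppA p) (ρ (nF 7 * nF 6) y)) = 0 := by
    intro p y hy
    obtain ⟨a, ha, ha'⟩ := nT_act (7 : Fin 8) (s := 117) (by norm_num) (one_ne_zero (α := F))
    obtain ⟨b, hb, hb'⟩ := nT_act (7 : Fin 8) (s := 118) (by norm_num) (one_ne_zero (α := F))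
    obtain ⟨c, hc, hc'⟩ := nT_act (6 : Fin 8) (s := 119) (by norm_num) (one_ne_zero (α := F))
    obtain ⟨d, hd, hd'⟩ := nT_act (6 : Fin 8) (s := 121) (by norm_num) (one_ne_zero (α := F))
    rw [show ((7 : Fin 8) : ℕ) = 7 from rfl, r0_14] at ha'
    rw [show ((7 : Fin 8) : ℕ) = 7 from rfl, r0_29] at hb'
    rw [show ((6 : Fin 8) : ℕ) = 6 from rfl, r2_15] at hc'
    rw [show ((6 : Fin 8) : ℕ) = 6 from rfl, r2_42] at hd'
    have e1 : ∀ u, xg 118 u * nF 7 = nF 7 * xg 117 (a⁻¹ * u) := fun u => by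
      have := mul_inv_eq_iff_eq_mul.1 (ha' (a⁻¹ * u))
      rw [mul_inv_cancel_left₀ ha] at this
      exact this.symm
    have e2 : ∀ u, xg 117 u * nF 7 = nF 7 * xg 118 (b⁻¹ * u) := fun u => by
      have := mul_inv_eq_iff_eq_mul.1 (hb' (b⁻¹ * u))
      rw [mul_inv_cancel_left₀ hb] at this
      exact this.symm
    have e3 : ∀ u, xg 117 u * nF 6 = nF 6 * xg 119 (c⁻¹ * u) := fun u => by
      have := mul_inv_eq_iff_eq_mul.1 (hc' (c⁻¹ * u))
      rw [mul_inv_cancel_left₀ hc] at this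
      exact this.symm
    have e4 : ∀ u, xg 118 u * nF 6 = nF 6 * xg 121 (d⁻¹ * u) := fun u => by
      have := mul_inv_eq_iff_eq_mul.1 (hd' (d⁻¹ * u))
      rw [mul_inv_cancel_left₀ hd] at this
      exact this.symm
    have e : oppA p * (nF 7 * nF 6) = nF 7 * (nF 6 *
        (xg 119 (c⁻¹ * (a⁻¹ * p.1)) * xg 121 (d⁻¹ * (b⁻¹ * p.2)))) := by
      rw [oppA, mul_assoc, ← mul_assoc (xg 117 p.2), e2, mul_assoc (nF 7), e4, ← mul_assoc (xg 118 p.1),
        e1, mul_assoc (nF 7), ← mul_assoc (xg 117 (a⁻¹ * p.1)), e3, mul_assoc (nF 6)]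
    rw [← Module.End.mul_apply (ρ (oppA p)), ← map_mul, e, map_mul, map_mul, map_mul]
    simp only [Module.End.mul_apply]
    rw [hfix (List.mem_cons_self ..) hy, avgA_comm7]
    rw [show avgA ρ (ρ (nF 6) _) = 0 from hn2 1 one_ne_zero _ (hpY 119 (by simp) _ y hy), map_zero]
  have havgY : ∀ y ∈ Y, avgA ρ y = ((q : ℂ) * q) • y := by
    intro y hy
    rw [avgA_apply, Finset.sum_congr rfl fun p _ => by
      rw [map_mul, Module.End.mul_apply, hfix (List.mem_cons_of_mem _ (List.mem_cons_self ..)) hy,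
        hfix (List.mem_cons_self ..) hy], Finset.sum_const, Finset.card_univ, Fintype.card_prod,
      ← Nat.cast_smul_eq_nsmul ℂ, Nat.cast_mul]
  -- the translates are independent
  let Φ : ((F × F → Y) × Y) →ₗ[ℂ] W2 :=
    { toFun := fun fz => ⟨(∑ p : F × F, ρ (oppA p) (fz.1 p : V)) + ρ (nF 7 * nF 6) (fz.2 : V), by
        have hYW : ∀ y ∈ Y, y ∈ W2 := fun y hy => W_mono ρ ψ
          (fun x hx => ⟨List.mem_cons_of_mem _ (List.mem_cons_of_mem _ hx), rfl⟩) hy
        refine Submodule.add_mem _ (Submodule.sum_mem _ fun p _ => ?_) ?_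
        · rw [oppA, map_mul, Module.End.mul_apply]
          exact preserve ρ ψ hm29 _ (fun _ _ => Or.inr rfl)
            (preserve ρ ψ hm14 _ (fun _ _ => Or.inr rfl) (hYW _ (fz.1 p).2))
        · rw [map_mul, Module.End.mul_apply]
          refine maps_W ρ ψ _ (S := radA) (P := Z) (fun x hx => ?_) ?_
          · obtain ⟨x', hx', hxx⟩ := hp0r x hx
            obtain ⟨e, he, he'⟩ := nT_act (7 : Fin 8) (s := x') (hm42.2 x' hx').1
              (one_ne_zero (α := F))
            exact ⟨x', hx', e, he, fun u => hxx ▸ he' u, by simp [hZ]⟩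
          · refine maps_W ρ ψ _ (S := 121 :: 122 :: radA) (P := Z) (fun x hx => ?_) fz.2.2
            obtain ⟨x', hx', hxx⟩ := hp2' x (List.mem_cons_of_mem _ hx)
            obtain ⟨e, he, he'⟩ := nT_act (6 : Fin 8) (s := x') ((hMY 120 (by simp)).2 x' hx').1
              (one_ne_zero (α := F))
            exact ⟨x', hx', e, he, fun u => hxx ▸ he' u, by simp [hZ]⟩⟩
      map_add' := fun f g => Subtype.ext (by
        simp [map_add, Finset.sum_add_distrib]
        abel)
      map_smul' := fun c f => Subtype.ext (by simp [map_smul, Finset.smul_sum]) }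
  have hΦ : Function.Injective Φ := by
    rw [← LinearMap.ker_eq_bot, Submodule.eq_bot_iff]
    intro fz hfz
    have h0 : (∑ p : F × F, ρ (oppA p) (fz.1 p : V)) + ρ (nF 7 * nF 6) (fz.2 : V) = 0 :=
      congrArg Subtype.val (LinearMap.mem_ker.1 hfz)
    have hf : ∀ p0 : F × F, (fz.1 p0 : V) = 0 := by
      intro p0
      have h1 := congrArg (fun v => avgA ρ (ρ (oppA p0)⁻¹ v)) h0
      have hcomp : ∀ (g h : chevE8.group F) (v : V), ρ g (ρ h v) = ρ (g * h) v := fun g h v => by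
        rw [map_mul, Module.End.mul_apply]
      simp only [map_add, map_sum, map_zero, hcomp, oppA_sub] at h1
      rw [Finset.sum_eq_single p0 (fun p _ hp => hopp _ (sub_ne_zero.2 hp) _ (fz.1 p).2) (by simp),
        sub_self] at h1
      have hinv : (oppA p0)⁻¹ = oppA (-p0) := by
        have := oppA_sub 0 p0
        simpa [oppA, xg_zero] using this
      rw [hinv, map_mul, Module.End.mul_apply, hn _ _ fz.2.2, add_zero,
        show oppA (0 : F × F) = 1 by simp [oppA, xg_zero], map_one, Module.End.one_apply,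
        havgY _ (fz.1 p0).2] at h1
      exact (smul_eq_zero.1 h1).resolve_left (by
        have : (q : ℂ) ≠ 0 := by simp [hq]
        exact mul_ne_zero this this)
    rw [Finset.sum_eq_zero fun p _ => by rw [hf p, map_zero], zero_add] at h0
    refine Prod.ext (funext fun p => Subtype.ext (hf p)) (Subtype.ext ?_)
    by_contra hne
    exact rho_inj ρ hne h0
  have hlow := LinearMap.finrank_le_finrank_of_injective hΦ
  rw [Module.finrank_prod, Module.finrank_pi_fintype, Finset.sum_const, Finset.card_univ,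
    Fintype.card_prod, smul_eq_mul] at hlow
  obtain ⟨k, hk⟩ := Nat.exists_eq_add_of_le hq2
  rw [← hq, hk] at hlow
  rw [hk, show 2 + k - 1 = k + 1 by omega] at hW2le hYdim
  nlinarith

end CfsgLib.E8MinDeg
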