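import Cfsg.Agent.E8MinDeg.Orbit

/-!
In a representation of small degree each root subgroup has, in the Heisenberg radical around it,
one line for each of its non-trivial characters; for a fundamental root this line is fixed by all
other positive root subgroups.
-/

set_option autoImplicit false
set_option linter.style.haveILetI false
set_option linter.unusedSectionVars false

namespace CfsgLib.E8MinDeg

open Cfsg.Lie CfsgLib.Chev CfsgLib.Chev.Tab Module CfsgLib.MinDeg

/-- The bound. -/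
def bnd (q : ℕ) : ℕ := q * (q ^ 12 + 1) * (q ^ 10 + 1) * (q ^ 6 + 1)

theorem bnd_le {q : ℕ} (hq : 2 ≤ q) : bnd q ≤ (q - 1) * (2 * q ^ 28) + q ^ 27 := by
  have hle : ∀ n, n ≤ 23 → q ^ n ≤ q ^ 23 := fun n hn => Nat.pow_le_pow_right (by omega) hn
  have h1 : bnd q ≤ q ^ 29 + 7 * q ^ 23 := by
    have e : bnd q =
        q ^ 29 + q ^ 23 + q ^ 19 + q ^ 17 + q ^ 13 + q ^ 11 + q ^ 7 + q ^ 1 := by
      rw [bnd]; ring
    have := hle 19 (by norm_num); have := hle 17 (by norm_num); have := hle 13 (by norm_num)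
    have := hle 11 (by norm_num); have := hle 7 (by norm_num); have := hle 1 (by norm_num)
    omega
  obtain ⟨k, rfl⟩ := Nat.exists_eq_add_of_le hq
  rw [show 2 + k - 1 = k + 1 by omega]
  refine le_trans h1 ?_
  have h2 : 7 * (2 + k) ^ 23 ≤ (2 + k) ^ 27 := by
    rw [show (2 + k) ^ 27 = (2 + k) ^ 4 * (2 + k) ^ 23 by ring]
    exact Nat.mul_le_mul_right _ (le_trans (by norm_num) (Nat.pow_le_pow_left hq 4))
  have h3 : (2 + k) ^ 29 ≤ (k + 1) * (2 * (2 + k) ^ 28) := by
    rw [show (2 + k) ^ 29 = (2 + k) * (2 + k) ^ 28 by ring, ← mul_assoc]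
    exact Nat.mul_le_mul_right _ (by omega)
  omega

theorem mem_posL {x : ℕ} : x ∈ posL ↔ 120 ≤ x ∧ x < 240 := by simp [posL]

theorem subset_known : ∀ {st : List (List (ℕ × ℕ × ℕ))} {K : List ℕ} {x : ℕ},
    x ∈ K → x ∈ known K st
  | [], _, _, h => h
  | _ :: st, _, _, h => subset_known (st := st) (List.mem_append_left _ h)

variable {F : Type*} [Field F]

theorem wS_ne (w : List (Fin 8)) {s : ℕ} (hs : s < 240) : (wS w s : F) ≠ 0 := fun h => by
  have := wS_sq (F := F) w hs
  rw [h, zero_mul] at this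
  exact zero_ne_one this

/-- The function supported at two roots. -/
def dl2 (s : ℕ) (a : F) (t : ℕ) (b : F) (x : ℕ) : F := if x = s then a else if x = t then b else 0

variable [Fintype F] {V : Type*} [AddCommGroup V] [Module ℂ V] [FiniteDimensional ℂ V]
  (ρ : Representation ℂ (chevE8.group F) V) (ψ : AddChar F ℂ)

/-- The standing hypotheses: small degree and a faithful highest root subgroup. -/
structure Small : Prop where
  prim : ψ.IsPrimitive
  small : finrank ℂ V < bnd (Fintype.card F)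
  moves : ρ (xg 239 (1 : F)) ≠ 1

/-- The eigenspace of the highest root subgroup. -/
noncomputable def topW (a : F) : ℕ := dW ρ ψ [239] (dl 239 a)

variable {ρ ψ} (H : Small ρ ψ)
include H

theorem Small.top_eq {a b : F} (ha : a ≠ 0) (hb : b ≠ 0) : topW ρ ψ a ≤ topW ρ ψ b :=
  dW_dl_torus ρ ψ (by decide +kernel) (j := 7) (Or.inl (by decide +kernel)) ha hb

theorem Small.top_pos {a : F} (ha : a ≠ 0) : topW ρ ψ a ≠ 0 := by
  obtain ⟨b, hb, he⟩ := G2MinDeg.exists_eig_ne_zero ρ eX ψ H.prim (r := 239) (u := (1 : F))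
    (by rw [eX_apply]; exact H.moves)
  intro h0
  have h1 := H.top_eq hb ha
  rw [h0] at h1
  refine he (le_bot_iff.1 (le_trans ?_
    (Submodule.finrank_eq_zero.1 (Nat.le_zero.1 h1)).le))
  intro v hv
  refine (mem_W ρ ψ).2 fun x hx u => ?_
  rw [List.mem_singleton] at hx
  subst hx
  rw [dl_self, ← eX_apply]
  exact (G2MinDeg.mem_eig ρ eX ψ).1 hv u

/-- A node's root is conjugate to the highest root. -/
theorem Small.node_top_le (i : Fin 8) (a : F) :
    topW ρ ψ (a * (wS (nodeD i).w 239 : F)) ≤ dW ρ ψ [(nodeD i).s] (dl (nodeD i).s a) ∧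
      dW ρ ψ [(nodeD i).s] (dl (nodeD i).s a) ≤ topW ρ ψ (a * (wS (nodeD i).w 239 : F)) := by
  obtain ⟨-, -, hw, -⟩ := chk_nodes i
  set w := (nodeD i).w
  have hc := fun u : F => nW_conj w (show 239 < 240 by norm_num) u
  refine ⟨dW_le_of_maps ρ ψ (nW w) fun v hv => maps_W ρ ψ _ (fun y hy => ?_) hv,
    dW_le_of_maps ρ ψ (nW w)⁻¹ fun v hv => maps_W_inv ρ ψ (nW w) (fun y hy => ?_) hv⟩
  · rw [List.mem_singleton] at hy
    subst hy
    exact ⟨239, List.mem_singleton_self _, _, wS_ne w (by norm_num), fun u => hw ▸ hc u,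
      by rw [dl_self, dl_self]⟩
  · rw [List.mem_singleton] at hy
    subst hy
    exact ⟨(nodeD i).s, List.mem_singleton_self _, _, fun u => hw ▸ hc u,
      by rw [dl_self, dl_self]⟩

/-- The characters of half of the Heisenberg radical. -/
theorem Small.node_card (i : Fin 8) {a : F} (ha : a ≠ 0) :
    Fintype.card F ^ 28 * dW ρ ψ (nodeD i).base (dl (nodeD i).s a) ≤
      dW ρ ψ [(nodeD i).s] (dl (nodeD i).s a) := by
  obtain ⟨-, -, -, hex, hlen, hsrc, -, hnd, hsL, habel, -⟩ := chk_nodes i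
  set n := nodeD i
  have hext : Extends n.L [n.s] (dl n.s a) := fun r hr => ⟨(habel r hr).1, fun x hx =>
    ⟨((habel r hr).2 x hx).1, ((habel r hr).2 x hx).2.1, Or.inl ((habel r hr).2 x hx).2.2⟩⟩
  have key := card_mul_le ρ ψ H.prim hext hnd
    (fun x hx h => hsL (List.mem_singleton.1 h ▸ hx))
    (fun t : n.R.toFinset → F => mvs (n.R.map fun r => (r, ext0 t r)) (dl n.s a))
    (m := dW ρ ψ n.base (dl n.s a))
    (fun t x hx => by
      rw [List.mem_singleton] at hx
      subst hx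
      exact (mvs_exact hex (ext0 t) _).1)
    (fun t t' ht => ext0_inj (mvs_injOn hex (P := dl n.s a) (by rwa [dl_self]) fun x hx => by
      rcases List.mem_cons.1 hx with rfl | hx'
      · rw [(mvs_exact hex (ext0 t) _).1, (mvs_exact hex (ext0 t') _).1]
      · exact ht x hx'))
    fun t => le_trans (family_le ρ ψ hex t _) (Submodule.finrank_mono
      (W_mono ρ ψ fun x hx => ⟨(List.mem_append.1 hx).elim (List.mem_cons_of_mem _)
        (fun h => (List.mem_singleton.1 h) ▸ List.mem_cons_self ..), rfl⟩))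
  rwa [card_ext hex.1, hlen] at key

theorem Small.node_pos (i : Fin 8) {a : F} (ha : a ≠ 0) :
    dW ρ ψ (nodeD i).base (dl (nodeD i).s a) ≠ 0 := by
  obtain ⟨-, -, -, hex, -, -, hcov, -, -, habel, -⟩ := chk_nodes i
  have hD : dW ρ ψ [(nodeD i).s] (dl (nodeD i).s a) ≠ 0 := fun h =>
    H.top_pos (mul_ne_zero ha (wS_ne (nodeD i).w (by norm_num)))
      (Nat.le_zero.1 (h ▸ (H.node_top_le i a).1))
  set n := nodeD i
  have hext : Extends n.L [n.s] (dl n.s a) := fun r hr => ⟨(habel r hr).1, fun x hx =>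
    ⟨((habel r hr).2 x hx).1, ((habel r hr).2 x hx).2.1, Or.inl ((habel r hr).2 x hx).2.2⟩⟩
  obtain ⟨P, hP, hne⟩ := exists_extension ρ ψ H.prim hext fun h =>
    hD (Submodule.finrank_eq_zero.2 h)
  have hPs : P n.s = a := by rw [hP _ (List.mem_singleton_self _), dl_self]
  intro h0
  refine hne (Submodule.finrank_eq_zero.1 (Nat.le_zero.1 (le_trans ?_ h0.le)))
  refine le_trans (Submodule.finrank_mono (W_mono ρ ψ (S' := n.base) fun x hx =>
    ⟨(List.mem_cons.1 hx).elim (fun e => List.mem_append_right _ (List.mem_singleton.2 e))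
      (List.mem_append_left _), rfl⟩)) ?_
  refine le_trans (dW_le_mvs ρ ψ (L := n.R.map fun r => (r, clearT n.s P r)) (fun p hp => by
    obtain ⟨r, hr, rfl⟩ := List.mem_map.1 hp
    exact (hex.2.2 r hr).1) P) (le_of_eq (dW_congr ρ ψ fun x hx => ?_))
  rcases List.mem_cons.1 hx with rfl | hx'
  · rw [(mvs_exact hex _ P).1, hPs, dl_self]
  · obtain ⟨r, hr, rfl⟩ := hcov x hx'
    rw [mvs_clear hex (hPs ▸ ha) r hr, dl_ne]
    intro e
    exact (chk_nodes i).2.2.2.2.2.2.2.2.1 (e ▸ hx')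

theorem Small.top_ge {a : F} (ha : a ≠ 0) : Fintype.card F ^ 28 ≤ topW ρ ψ a := by
  set c : F := (wS (nodeD 7).w 239 : F) with hc
  have hcc : c * c = 1 := wS_sq (nodeD 7).w (by norm_num)
  have ha' : a * c ≠ 0 := mul_ne_zero ha (wS_ne (nodeD 7).w (by norm_num))
  have h1 := Nat.mul_le_mul_left (Fintype.card F ^ 28)
    (Nat.one_le_iff_ne_zero.2 (H.node_pos 7 ha'))
  have h2 := le_trans (H.node_card 7 ha') (H.node_top_le 7 (a * c)).2
  rw [← hc, mul_assoc, hcc, mul_one] at h2
  omega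

theorem Small.exists_char : ∃ P : ℕ → F, (∀ x ∈ lvl0.K, P x = 0) ∧
    (∃ x ∈ lvl0.Q, P x ≠ 0) ∧ dW ρ ψ (lvl0.Q ++ lvl0.K) P ≠ 0 := by
  classical
  by_contra hc
  push Not at hc
  obtain ⟨-, -, hQ, -⟩ := chk_lvls lvl0 (by simp [lvls])
  obtain ⟨-, -, -, -, -, hex, hsrc⟩ := chk_top
  have hK : ∀ x, x ∈ lvl0.K ↔ x = 239 := by simp [lvl0]
  have hext : Extends lvl0.Q [239] (fun _ => (0 : F)) := fun r hr => ⟨(hQ r hr).1, fun x hx =>
    have hx' : x ∈ lvl0.Q ++ lvl0.K := List.mem_append.2 ((List.mem_append.1 hx).imp id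
      fun h => (hK x).2 (List.mem_singleton.1 h))
    ⟨((hQ r hr).2 x hx').1, ((hQ r hr).2 x hx').2.1, ((hQ r hr).2 x hx').2.2.imp id
      fun h => ⟨List.mem_singleton.2 ((hK _).1 h), rfl⟩⟩⟩
  have hall : W ρ ψ [239] (fun _ => (0 : F)) ≤ W ρ ψ [120, 239] (fun _ => (0 : F)) := by
    refine induct_slices ρ ψ H.prim hext fun P hP => ?_
    by_cases h : ∀ x ∈ lvl0.Q, P x = 0
    · refine W_mono ρ ψ fun x hx => ⟨?_, ?_⟩
      · rcases List.mem_cons.1 hx with rfl | hx
        · exact List.mem_append_left _ (by simp [lvl0])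
        · exact List.mem_append_right _ hx
      · rcases List.mem_cons.1 hx with rfl | hx
        · exact (h 120 (by simp [lvl0])).symm
        · exact (hP x hx).symm
    · push Not at h
      obtain ⟨x, hx, hne⟩ := h
      have h0 := Submodule.finrank_eq_zero.1
        (hc P (fun y hy => hP y (List.mem_singleton.2 ((hK y).1 hy))) ⟨x, hx, hne⟩)
      exact le_trans (W_mono ρ ψ fun y hy => ⟨(List.mem_append.1 hy).elim (List.mem_append_left _)
        (fun h => List.mem_append_right _ (List.mem_singleton.2 ((hK y).1 h))), rfl⟩)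
        (h0.le.trans bot_le)
  -- one non-zero character of the highest root makes the fixed space of the lowest bigger
  have hmov : Mov 239 [120] := by decide +kernel
  have hsum := sum_one ρ ψ H.prim (r := 239) (S := [120]) (P := fun _ => (0 : F)) hmov
    (fun _ _ => Or.inr rfl) (by decide)
  have hle : dW ρ ψ [120] (fun _ => (0 : F)) ≤ dW ρ ψ [239] (fun _ => (0 : F)) := by
    refine dW_le_of_maps ρ ψ (nW (nodeD 7).w)⁻¹ fun v hv =>
      maps_W_inv ρ ψ (nW (nodeD 7).w) (fun x hx => ?_) hv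
    rw [List.mem_singleton] at hx
    subst hx
    refine ⟨120, List.mem_singleton_self _, (wS (nodeD 7).w 239 : F), fun u => ?_, by simp⟩
    have := nW_conj (nodeD 7).w (show 239 < 240 by norm_num) u
    rwa [(chk_nodes 7).2.2.1, show (nodeD 7).s = 120 from rfl] at this
  rw [← Finset.add_sum_erase Finset.univ _ (Finset.mem_univ (0 : F))] at hsum
  have hzero : dW ρ ψ [239] (fun _ => (0 : F)) ≤
      dW ρ ψ (239 :: [120]) (Function.update (fun _ => (0 : F)) 239 0) := by
    refine le_trans (Submodule.finrank_mono hall) (Submodule.finrank_mono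
      (W_mono ρ ψ fun x hx => ⟨?_, by simp [Function.update_apply]⟩))
    simp at hx ⊢
    omega
  have hone : 1 ≤ dW ρ ψ (239 :: [120]) (Function.update (fun _ => (0 : F)) 239 1) := by
    have hext1 : Extends [120] [239] (dl 239 (1 : F)) := by
      intro r hr
      rw [List.mem_singleton] at hr
      subst hr
      exact ⟨by norm_num, fun x hx => by
        obtain ⟨h1, h2, h3⟩ := (by decide +kernel :
          ∀ x ∈ [120] ++ [239], x < 240 ∧ x ≠ 239 - 120 ∧ sgnR 120 x = 0) x hx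
        exact ⟨h1, h2, Or.inl h3⟩⟩
    obtain ⟨P, hP, hne⟩ := exists_extension ρ ψ H.prim hext1 fun h =>
      H.top_pos one_ne_zero (Submodule.finrank_eq_zero.2 h)
    have hP239 : P 239 = 1 := by rw [hP 239 (List.mem_singleton_self _), dl_self]
    refine le_trans (Nat.one_le_iff_ne_zero.2 fun h => hne (Submodule.finrank_eq_zero.1 h))
      (le_trans (dW_le_mvs ρ ψ (L := [238].map fun r => (r, clearT 239 P r)) (fun p hp => by
        obtain ⟨r, hr, rfl⟩ := List.mem_map.1 hp
        exact (hex.2.2 r hr).1) P) ?_)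
    refine Submodule.finrank_mono (W_mono ρ ψ fun x hx => ⟨?_, ?_⟩)
    · simp at hx ⊢
      omega
    · rcases List.mem_cons.1 hx with rfl | hx
      · rw [Function.update_self, (mvs_exact hex _ P).1, hP239]
      · rw [List.mem_singleton] at hx
        subst hx
        have h := mvs_clear hex (P := P) (by rw [hP239]; exact one_ne_zero) 238 (by simp)
        rw [hsrc] at h
        rw [h, Function.update_of_ne (by norm_num)]
  have hbig := Finset.single_le_sum (f := fun a : F =>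
    dW ρ ψ (239 :: [120]) (Function.update (fun _ => (0 : F)) 239 a))
    (fun _ _ => Nat.zero_le _) (Finset.mem_erase.2 ⟨one_ne_zero, Finset.mem_univ (1 : F)⟩)
  omega

theorem Small.zero_ge : Fintype.card F ^ 27 ≤ dW ρ ψ [239] (fun _ => (0 : F)) := by
  classical
  obtain ⟨P, hPK, ⟨x, hx, hxne⟩, hne⟩ := H.exists_char
  obtain ⟨hnd, hdisj, hQ, -, hpiv⟩ := chk_lvls lvl0 (by simp [lvls])
  obtain ⟨hex, hlen, hsrc, hcov, hinv, -, -⟩ := chk_top
  have hK : ∀ {y : ℕ}, y ∈ lvl0.K → y = 239 := fun {y} h => by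
    change y ∈ [239] at h
    exact List.mem_singleton.1 h
  obtain ⟨p, hp, rfl⟩ := hcov x hx
  obtain ⟨-, -, hw, hperm, -⟩ := hpiv p hp
  set S := lvl0.Q ++ lvl0.K
  set w := p.2.1
  have h240 : ∀ y ∈ S, y < 240 := by decide +kernel
  set P0 : ℕ → F := fun y => P (wR w y) * (wS w y : F) with hP0
  have hne0 : dW ρ ψ S P0 ≠ 0 := fun h => hne (Nat.le_zero.1 (h ▸ dW_le_of_maps ρ ψ (nW w)⁻¹
    fun v hv => maps_W_inv ρ ψ (nW w) (fun y hy =>
      ⟨wR w y, hinv p hp y hy, (wS w y : F), fun u => nW_conj w (h240 y hy) u, rfl⟩) hv))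
  have h120 : P0 120 ≠ 0 := by
    refine mul_ne_zero ?_ (wS_ne w (by norm_num))
    rw [show wR w 120 = p.1 from hw]
    exact hxne
  have h239 : P0 239 = 0 := by
    rw [hP0]
    show P (wR w 239) * _ = 0
    have h := hinv p hp 239 (List.mem_append_right _ (List.mem_singleton_self 239))
    rcases List.mem_append.1 h with h' | h'
    · exfalso
      obtain ⟨y, hy, hyx, -⟩ := hperm 239 (by simp [S, lvl0])
      exact (by decide +kernel : ∀ p ∈ lvl0.piv, wR p.2.1 239 ∉ lvl0.Q) p hp h'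
    · rw [hPK _ h', zero_mul]
  have hext : Extends lvl0.Q [239] (fun _ => (0 : F)) := fun r hr => ⟨(hQ r hr).1, fun y hy =>
    have hy' : y ∈ lvl0.Q ++ lvl0.K := List.mem_append.2 ((List.mem_append.1 hy).imp id
      fun h => by rw [List.mem_singleton] at h; subst h; simp [lvl0])
    ⟨((hQ r hr).2 y hy').1, ((hQ r hr).2 y hy').2.1, ((hQ r hr).2 y hy').2.2.imp id
      fun h => ⟨by simpa [lvl0] using h, rfl⟩⟩⟩
  have key := card_mul_le ρ ψ H.prim hext hnd (fun y hy h => hdisj y hy (by rw [List.mem_singleton] at h; subst h; exact List.mem_singleton_self 239))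
    (fun t : R27.toFinset → F => mvs (R27.map fun r => (r, ext0 t r)) P0) (m := 1)
    (fun t y hy => ?_) (fun t t' ht => ext0_inj (mvs_injOn hex h120 fun y hy => ?_)) fun t => ?_
  · rwa [card_ext hex.1, hlen, mul_one] at key
  · rw [List.mem_singleton] at hy
    subst hy
    rw [mvs_eq (Z := fun _ => False) (fun _ _ _ h => h.elim) (fun _ h => h.elim) (fun q hq => ?_),
      h239]
    obtain ⟨r, hr, rfl⟩ := List.mem_map.1 hq
    exact Or.inl (hsrc r hr).2
  · rcases List.mem_append.1 hy with hy' | hy'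
    · exact ht y hy'
    · have : y = 239 := by simpa [lvl0] using hy'
      subst this
      have h0 : ∀ t : R27.toFinset → F,
          mvs (R27.map fun r => (r, ext0 t r)) P0 239 = P0 239 := fun t =>
        mvs_eq (Z := fun _ => False) (fun _ _ _ h => h.elim) (fun _ h => h.elim) fun q hq => by
          obtain ⟨r, hr, rfl⟩ := List.mem_map.1 hq
          exact Or.inl (hsrc r hr).2
      rw [h0, h0]
  · refine le_trans (Nat.one_le_iff_ne_zero.2 hne0) (le_trans (family_le ρ ψ hex t P0) ?_)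
    refine Submodule.finrank_mono (W_mono ρ ψ fun y hy => ⟨?_, rfl⟩)
    rcases List.mem_append.1 hy with h | h
    · exact List.mem_append_left _ h
    · exact List.mem_append_right _ (by simpa [lvl0] using h)

theorem Small.top_sum {m : ℕ} (hm : ∀ a : F, a ≠ 0 → m ≤ topW ρ ψ a) :
    (Fintype.card F - 1) * m + dW ρ ψ [239] (fun _ => (0 : F)) ≤ finrank ℂ V := by
  classical
  have hs := sum_one ρ ψ H.prim (r := 239) (S := []) (P := fun _ => (0 : F))
    ⟨by norm_num, fun x hx => absurd hx List.not_mem_nil⟩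
    (fun x hx => absurd hx List.not_mem_nil) List.not_mem_nil
  rw [← Finset.add_sum_erase Finset.univ _ (Finset.mem_univ (0 : F)),
    dW_congr ρ ψ (S := [239]) (P' := fun _ => (0 : F))
      fun x _ => by simp [Function.update_apply]] at hs
  have hc : ∀ a : F, dW ρ ψ [239] (Function.update (fun _ => (0 : F)) 239 a) = topW ρ ψ a :=
    fun a => dW_congr ρ ψ fun x _ => by simp [dl, Function.update_apply]
  simp only [hc] at hs
  have h1 := Finset.card_nsmul_le_sum (Finset.univ.erase (0 : F)) (fun a => topW ρ ψ a) m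
    fun a ha => hm a (Finset.ne_of_mem_erase ha)
  rw [Finset.card_erase_of_mem (Finset.mem_univ _), Finset.card_univ, smul_eq_mul] at h1
  have h2 := dW_le ρ ψ ([] : List ℕ) (fun _ => (0 : F))
  omega

theorem Small.line_le (i : Fin 8) {a : F} (ha : a ≠ 0) :
    dW ρ ψ (nodeD i).base (dl (nodeD i).s a) ≤ 1 := by
  by_contra hc
  have hc2 : 2 ≤ dW ρ ψ (nodeD i).base (dl (nodeD i).s a) := by omega
  have h1 := le_trans (Nat.mul_le_mul_left (Fintype.card F ^ 28) hc2)
    (le_trans (H.node_card i ha) (H.node_top_le i a).2)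
  have hne := mul_ne_zero ha (wS_ne (F := F) (nodeD i).w (show 239 < 240 by norm_num))
  have h2 := H.top_sum (m := 2 * Fintype.card F ^ 28) fun b hb => by
    have := H.top_eq hne hb
    omega
  have h3 := bnd_le (q := Fintype.card F) Fintype.one_lt_card
  have h4 := H.small
  have h5 := H.zero_ge
  omega

theorem Small.stage_fix (i : Fin 8) {a : F} (ha : a ≠ 0) :
    ∀ {st : List (List (ℕ × ℕ × ℕ))} {K : List ℕ},
      StagesOk (nodeD i).base (nodeD i).s K st → (∀ x ∈ (nodeD i).base, x ∈ K) →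
      W ρ ψ (nodeD i).base (dl (nodeD i).s a) ≤ W ρ ψ K (dl (nodeD i).s a) →
      W ρ ψ (nodeD i).base (dl (nodeD i).s a) ≤ W ρ ψ (known K st) (dl (nodeD i).s a)
  | [], _, _, _, h => h
  | N :: st, K, hok, hsub, h => by
    refine Small.stage_fix i ha (st := st) hok.2
      (fun x hx => List.mem_append_left _ (hsub x hx)) fun v hv => ?_
    refine (mem_W ρ ψ).2 fun x hx c => ?_
    rcases List.mem_append.1 hx with hxK | hxN
    · exact (mem_W ρ ψ).1 (h hv) x hxK c
    obtain ⟨e, he, rfl⟩ := List.mem_map.1 hxN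
    obtain ⟨htg, hsg, hne, hes, hm1, hm2⟩ := hok.1 e he
    rw [dl_ne _ hes, zero_mul, AddChar.map_zero_eq_one, one_smul]
    rcases eq_or_ne v 0 with rfl | hv0
    · rw [map_zero]
    have hdim : finrank ℂ (W ρ ψ (nodeD i).base (dl (nodeD i).s a)) = 1 :=
      le_antisymm (H.line_le i ha) (one_le_dW ρ ψ hv hv0)
    have hscal : ∀ {r' : ℕ}, MovTo r' (nodeD i).base K (nodeD i).s →
        ∀ t : F, ∃ d : ℂ, ρ (xg r' t) v = d • v := fun {r'} hm t => by
      obtain ⟨d, hd⟩ := exists_smul_eq_of_finrank_eq_one hdim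
        (x := (⟨v, hv⟩ : W ρ ψ (nodeD i).base (dl (nodeD i).s a)))
        (fun h => hv0 (congrArg Subtype.val h)) ⟨_, translate_to ρ ψ hm hsub t (h hv)⟩
      exact ⟨d, (congrArg Subtype.val hd).symm⟩
    have h12 : e.2.1 < 240 ∧ e.2.2 < 240 := ⟨hm1.1, hm2.1⟩
    have hs := sgn_cast_ne (F := F) h12.1 h12.2 hne hsg
    set u : F := -c / (sgnR e.2.1 e.2.2 : F) with hu
    obtain ⟨d1, h1⟩ := hscal hm1 1
    obtain ⟨d2, h2⟩ := hscal hm2 u
    have eq := congrArg (fun g => ρ g v) (xg_swap h12.1 h12.2 hne (1 : F) u)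
    rw [htg, show -((sgnR e.2.1 e.2.2 : F) * 1 * u) = c by rw [hu]; field_simp] at eq
    simp only [map_mul, Module.End.mul_apply] at eq
    rw [h1, map_smul, h2, smul_smul] at eq
    have hinj : ∀ {g : chevE8.group F} {y z : V}, ρ g y = ρ g z → y = z := fun {g y z} h => by
      have := congrArg (ρ g⁻¹) h
      rwa [← Module.End.mul_apply, ← Module.End.mul_apply, ← map_mul, inv_mul_cancel,
        map_one] at this
    refine hinj (g := xg e.2.2 u) (hinj (g := xg e.2.1 (1 : F)) ?_)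
    rw [← eq, h2, map_smul, h1, smul_smul, mul_comm]

theorem Small.base_fix (i : Fin 8) {a : F} (ha : a ≠ 0) :
    W ρ ψ (nodeD i).base (dl (nodeD i).s a) ≤ W ρ ψ (nodeD i).K2 (dl (nodeD i).s a) :=
  H.stage_fix i ha (chk_nodes i).2.2.2.2.2.2.2.2.2.2.2.1 (fun _ hx => hx) le_rfl

theorem Small.pair_half {i j : Fin 8} (hij : i ≠ j) (hK : sR j ∈ (nodeD i).K2) {P : ℕ → F}
    (hi : P (sR i) ≠ 0) (hj : P (sR j) ≠ 0)
    (hP : ∀ x ∈ posL, (∀ k : Fin 8, sR k ≠ x) → P x = 0) : W ρ ψ posL P = ⊥ := by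
  obtain ⟨hs, hs120, -, -, -, -, -, -, hsL, -, hL, -, hKpos, -⟩ := chk_nodes i
  have hne : sR j ≠ (nodeD i).s := fun e =>
    hij ((by decide +kernel : ∀ i j : Fin 8, sR i = sR j → i = j) i j (hs.symm.trans e.symm))
  refine (Submodule.eq_bot_iff _).2 fun v hv => ?_
  by_contra hv0
  have hvb : v ∈ W ρ ψ (nodeD i).base (dl (nodeD i).s (P (sR i))) :=
    W_mono ρ ψ (S := posL) (P := P) (fun x hx => by
      rcases List.mem_cons.1 hx with rfl | hx'
      · exact ⟨hKpos _ (subset_known (List.mem_cons_self ..)), by rw [dl_self, hs]⟩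
      · exact ⟨(hL x hx').1, by
          rw [hP x (hL x hx').1 (hL x hx').2, dl_ne _ (fun (e : x = (nodeD i).s) => by subst e; exact hsL hx')]⟩) hv
  obtain ⟨u, hu⟩ := AddChar.ne_one_iff.1 (H.prim hj)
  refine hu ?_
  rw [AddChar.mulShift_apply]
  have h1 := (mem_W ρ ψ).1 (H.base_fix i hi hvb) _ hK u
  rw [dl_ne _ hne, zero_mul, AddChar.map_zero_eq_one] at h1
  exact smul_left_injective ℂ hv0 (((mem_W ρ ψ).1 hv _ (hKpos _ hK) u).symm.trans h1)

/-- No eigenvector with two fundamental roots. -/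
theorem Small.pair_bot {i j : Fin 8} (hij : i ≠ j) {P : ℕ → F}
    (hi : P (sR i) ≠ 0) (hj : P (sR j) ≠ 0)
    (hP : ∀ x ∈ posL, (∀ k : Fin 8, sR k ≠ x) → P x = 0) : W ρ ψ posL P = ⊥ := by
  rcases chk_pairs i j hij with h | h
  · exact H.pair_half hij h hi hj hP
  · exact H.pair_half hij.symm h hj hi hP

theorem Small.U_eq (i : Fin 8) {a : F} (ha : a ≠ 0) :
    W ρ ψ posL (dl (sR i) a) = W ρ ψ (nodeD i).base (dl (sR i) a) := by
  obtain ⟨hs, -, -, -, -, -, -, -, -, -, -, -, hKpos, hcov, hsr, hrest⟩ := chk_nodes i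
  refine le_antisymm (W_mono ρ ψ fun x hx => ⟨hKpos x (subset_known hx), rfl⟩) ?_
  rw [← hs]
  refine le_trans (H.base_fix i ha) (induct_slices ρ ψ H.prim (X := (nodeD i).rest) ?_ fun P hP => ?_)
  · intro t ht
    obtain ⟨-, h240, h⟩ := hrest t ht
    exact ⟨h240, fun x hx => ⟨(h x hx).1, (h x hx).2.1,
      (h x hx).2.2.imp id fun h' => ⟨h'.1, dl_ne _ h'.2⟩⟩⟩
  · have hmem : ∀ x ∈ posL, x ∈ (nodeD i).rest ++ (nodeD i).K2 := fun x hx =>
      (hcov x hx).elim (List.mem_append_right _) (List.mem_append_left _)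
    by_cases h : ∀ t ∈ (nodeD i).rest, P t = 0
    · refine W_mono ρ ψ fun x hx => ⟨hmem x hx, ?_⟩
      rcases hcov x hx with hx' | hx'
      · exact (hP x hx').symm
      · rw [h x hx', dl_ne _ (fun (e : x = (nodeD i).s) => by subst e; exact hsr hx')]
    · push Not at h
      obtain ⟨t, ht, htne⟩ := h
      obtain ⟨⟨j, rfl⟩, -, -⟩ := hrest t ht
      have hsK : (nodeD i).s ∈ (nodeD i).K2 := subset_known (List.mem_cons_self ..)
      have hi : P (sR i) ≠ 0 := by rw [← hs, hP _ hsK, dl_self]; exact ha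
      have hij : i ≠ j := fun e => by subst e; exact hsr (by rw [hs]; exact ht)
      refine le_trans (W_mono ρ ψ (S' := posL) fun x hx => ⟨hmem x hx, rfl⟩)
        ((H.pair_bot hij hi htne fun x hx hns => ?_).le.trans bot_le)
      rcases hcov x hx with hx' | hx'
      · rw [hP x hx', dl_ne _ fun e => hns i (hs ▸ e.symm)]
      · obtain ⟨⟨k, hk⟩, -, -⟩ := hrest x hx'
        exact absurd hk (hns k)

theorem Small.U_le (i : Fin 8) {a : F} (ha : a ≠ 0) : dW ρ ψ posL (dl (sR i) a) ≤ 1 := by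
  rw [dW, H.U_eq i ha, ← (chk_nodes i).1]
  exact H.line_le i ha

theorem Small.U_ne (i : Fin 8) {a : F} (ha : a ≠ 0) : W ρ ψ posL (dl (sR i) a) ≠ ⊥ := by
  rw [H.U_eq i ha, ← (chk_nodes i).1]
  exact fun h => H.node_pos i ha (Submodule.finrank_eq_zero.2 h)

theorem Small.pair2_bot {i j : Fin 8} (hij : i ≠ j) {a b : F} (ha : a ≠ 0) (hb : b ≠ 0) :
    W ρ ψ posL (dl2 (sR i) a (sR j) b) = ⊥ := by
  have hne : sR j ≠ sR i := fun e =>
    hij ((by decide +kernel : ∀ i j : Fin 8, sR i = sR j → i = j) j i e).symm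
  refine H.pair_bot hij ?_ ?_ fun x _ hns => ?_
  · rwa [dl2, if_pos rfl]
  · rwa [dl2, if_neg hne, if_pos rfl]
  · rw [dl2, if_neg fun e => hns i e.symm, if_neg fun e => hns j e.symm]

end CfsgLib.E8MinDeg
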