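import Cfsg.Agent.E8MinDeg.Basic

/-!
Filling a common eigenspace by the eigenspaces of more root subgroups, and translations by lists of
root elements whose effect on chosen coordinates is linear.
-/

set_option autoImplicit false
set_option linter.style.haveILetI false
set_option linter.unusedSectionVars false

namespace CfsgLib.E8MinDeg

open Cfsg.Lie CfsgLib.Chev CfsgLib.Chev.Tab Module CfsgLib.MinDeg

variable {F : Type*} [Field F]

/-- The function supported at one root. -/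
def dl (s : ℕ) (a : F) (x : ℕ) : F := if x = s then a else 0

theorem dl_self (s : ℕ) (a : F) : dl s a s = a := if_pos rfl

theorem dl_ne {s x : ℕ} (a : F) (h : x ≠ s) : dl s a x = 0 := if_neg h

theorem dl_zero (s : ℕ) : dl s (0 : F) = fun _ => 0 := funext fun x => by simp [dl]

theorem sgn_cast_ne {r x : ℕ} (hr : r < 240) (hx : x < 240) (hn : x ≠ 239 - r)
    (h : sgnR r x ≠ 0) : (sgnR r x : F) ≠ 0 := by
  rcases term_cases hr hx hn with ⟨-, h0⟩ | ⟨-, h1, -⟩
  · exact absurd h0 h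
  · rcases h1 with e | e <;> rw [e] <;> simp

/-- The characters of a translate by a product. -/
def mvs : List (ℕ × F) → (ℕ → F) → ℕ → F
  | [], P => P
  | p :: L, P => mv p.1 p.2 (mvs L P)

/-- A product of root elements. -/
noncomputable def xprod (L : List (ℕ × F)) : chevE8.group F := (L.map fun p => xg p.1 p.2).prod

theorem xprod_nil : xprod ([] : List (ℕ × F)) = 1 := rfl

theorem xprod_cons (p : ℕ × F) (L : List (ℕ × F)) : xprod (p :: L) = xg p.1 p.2 * xprod L := rfl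

/-- The first coordinate carried to `β` by the root `r`. -/
def src (β r : ℕ) : ℕ :=
  ((List.range 240).find? fun x => tgtR r x == β && sgnR r x != 0).getD 0

/-- The roots of a list move the coordinates below `β` linearly. -/
def Exact (S : List ℕ) (β : ℕ) (R : List ℕ) : Prop :=
  R.Nodup ∧ β ∈ S ∧ ∀ r ∈ R, Mov r S ∧ sgnR r β = 0 ∧ src β r ∈ S ∧ sgnR r (src β r) ≠ 0 ∧
    tgtR r (src β r) = β ∧ ∀ r' ∈ R, r' ≠ r → sgnR r (src β r') = 0

instance (S : List ℕ) (β : ℕ) (R : List ℕ) : Decidable (Exact S β R) :=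
  inferInstanceAs (Decidable (_ ∧ _))

theorem mvs_zero {Z : ℕ → Prop} : ∀ {L : List (ℕ × F)},
    (∀ p ∈ L, ∀ x, Z x → sgnR p.1 x = 0 ∨ Z (tgtR p.1 x)) →
    ∀ {P : ℕ → F}, (∀ x, Z x → P x = 0) → ∀ x, Z x → mvs L P x = 0
  | [], _, _, hP, x, hx => hP x hx
  | p :: L, h, P, hP, x, hx => by
    have ih := mvs_zero (L := L) (fun q hq => h q (List.mem_cons_of_mem _ hq)) hP
    rcases h p (List.mem_cons_self ..) x hx with h0 | h0
    · simp [mvs, mv, h0, ih x hx]
    · simp [mvs, mv, ih _ h0, ih x hx]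

theorem mvs_eq {Z : ℕ → Prop} : ∀ {L : List (ℕ × F)},
    (∀ p ∈ L, ∀ x, Z x → sgnR p.1 x = 0 ∨ Z (tgtR p.1 x)) →
    ∀ {P : ℕ → F}, (∀ x, Z x → P x = 0) → ∀ {x : ℕ},
    (∀ p ∈ L, sgnR p.1 x = 0 ∨ Z (tgtR p.1 x)) → mvs L P x = P x
  | [], _, _, _, _, _ => rfl
  | p :: L, h, P, hP, x, hx => by
    have h' := fun q hq => h q (List.mem_cons_of_mem p hq)
    have ih := mvs_eq h' hP (fun q hq => hx q (List.mem_cons_of_mem _ hq))
    rcases hx p (List.mem_cons_self ..) with h0 | h0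
    · simp [mvs, mv, h0, ih]
    · simp [mvs, mv, mvs_zero h' hP _ h0, ih]

theorem mvs_linear {S : List ℕ} {β : ℕ} {R : List ℕ} (hR : Exact S β R) (t : ℕ → F)
    (P : ℕ → F) : ∀ {L : List ℕ}, L.Nodup → (∀ r ∈ L, r ∈ R) →
    mvs (L.map fun r => (r, t r)) P β = P β ∧ ∀ r' ∈ R,
      mvs (L.map fun r => (r, t r)) P (src β r') = P (src β r') -
        if r' ∈ L then (sgnR r' (src β r') : F) * t r' * P β else 0
  | [], _, _ => ⟨rfl, fun r' _ => by simp [mvs]⟩
  | r :: L, hnd, hsub => by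
    obtain ⟨ih1, ih2⟩ := mvs_linear hR t P (L := L) (List.nodup_cons.1 hnd).2
      fun x hx => hsub x (List.mem_cons_of_mem _ hx)
    have hr := hsub r (List.mem_cons_self ..)
    obtain ⟨-, hb, -, -, htg, hoth⟩ := hR.2.2 r hr
    refine ⟨?_, fun r' hr' => ?_⟩
    · simp [mvs, mv, hb, ih1]
    · simp only [List.map_cons, mvs, mv, ih2 r' hr']
      by_cases he : r' = r
      · subst he
        simp [(List.nodup_cons.1 hnd).1, htg, ih1]
      · simp [hoth r' hr' he, he]

/-- Linear effect of all the roots of the list. -/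
theorem mvs_exact {S : List ℕ} {β : ℕ} {R : List ℕ} (hR : Exact S β R) (t P : ℕ → F) :
    mvs (R.map fun r => (r, t r)) P β = P β ∧ ∀ r ∈ R,
      mvs (R.map fun r => (r, t r)) P (src β r) =
        P (src β r) - (sgnR r (src β r) : F) * t r * P β := by
  obtain ⟨h1, h2⟩ := mvs_linear hR t P (L := R) hR.1 fun r hr => hr
  exact ⟨h1, fun r hr => by rw [h2 r hr, if_pos hr]⟩

/-- The parameters clearing the coordinates below `β`. -/
def clearT (β : ℕ) (P : ℕ → F) (r : ℕ) : F :=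
  P (src β r) / ((sgnR r (src β r) : F) * P β)

theorem mvs_clear {S : List ℕ} {β : ℕ} {R : List ℕ} (hR : Exact S β R) {P : ℕ → F}
    (hP : P β ≠ 0) : ∀ r ∈ R, mvs (R.map fun r => (r, clearT β P r)) P (src β r) = 0 := by
  intro r hr
  obtain ⟨hm, -, hs, hne, -, -⟩ := hR.2.2 r hr
  have h := sgn_cast_ne (F := F) hm.1 (hm.2 _ hs).1 (hm.2 _ hs).2.1 hne
  rw [(mvs_exact hR _ P).2 r hr, clearT]
  field_simp
  ring

theorem mvs_injOn {S : List ℕ} {β : ℕ} {R : List ℕ} (hR : Exact S β R) {P : ℕ → F}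
    (hP : P β ≠ 0) {t t' : ℕ → F}
    (h : ∀ x ∈ S, mvs (R.map fun r => (r, t r)) P x = mvs (R.map fun r => (r, t' r)) P x) :
    ∀ r ∈ R, t r = t' r := by
  intro r hr
  obtain ⟨hm, -, hs, hne, -, -⟩ := hR.2.2 r hr
  have hne' := sgn_cast_ne (F := F) hm.1 (hm.2 _ hs).1 (hm.2 _ hs).2.1 hne
  have h' := h _ hs
  rw [(mvs_exact hR t P).2 r hr, (mvs_exact hR t' P).2 r hr, sub_right_inj] at h'
  exact mul_left_cancel₀ hne' (mul_right_cancel₀ hP h')

section Eigen

variable [Fintype F] {V : Type*} [AddCommGroup V] [Module ℂ V] [FiniteDimensional ℂ V]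
  (ρ : Representation ℂ (chevE8.group F) V) (ψ : AddChar F ℂ)

theorem translate_list {S : List ℕ} : ∀ {L : List (ℕ × F)}, (∀ p ∈ L, Mov p.1 S) →
    ∀ {P : ℕ → F} {v : V}, v ∈ W ρ ψ S P → ρ (xprod L) v ∈ W ρ ψ S (mvs L P)
  | [], _, P, v, hv => by rwa [xprod_nil, map_one, Module.End.one_apply]
  | p :: L, h, P, v, hv => by
    rw [xprod_cons, map_mul, Module.End.mul_apply]
    exact translate ρ ψ (h p (List.mem_cons_self ..)) p.2
      (translate_list (fun q hq => h q (List.mem_cons_of_mem _ hq)) hv)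

theorem dW_le_mvs {S : List ℕ} {L : List (ℕ × F)} (h : ∀ p ∈ L, Mov p.1 S) (P : ℕ → F) :
    dW ρ ψ S P ≤ dW ρ ψ S (mvs L P) :=
  dW_le_of_maps ρ ψ (xprod L) fun _ hv => translate_list ρ ψ h hv

theorem exists_ne_of_dW {S : List ℕ} {P : ℕ → F} (h : dW ρ ψ S P ≠ 0) :
    ∃ v ∈ W ρ ψ S P, v ≠ 0 :=
  Submodule.exists_mem_ne_zero_of_ne_bot fun e => h (Submodule.finrank_eq_zero.2 e)

theorem one_le_dW {S : List ℕ} {P : ℕ → F} {v : V} (hv : v ∈ W ρ ψ S P) (h : v ≠ 0) :
    1 ≤ dW ρ ψ S P := by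
  refine Nat.one_le_iff_ne_zero.2 fun e => h ?_
  rw [dW, Submodule.finrank_eq_zero] at e
  rw [e] at hv
  exact (Submodule.mem_bot ℂ).1 hv

/-- The roots of `X` may be added to the eigenspace of `S`. -/
def Extends (X S : List ℕ) (P : ℕ → F) : Prop :=
  ∀ r ∈ X, r < 240 ∧ ∀ x ∈ X ++ S, x < 240 ∧ x ≠ 239 - r ∧
    (sgnR r x = 0 ∨ (tgtR r x ∈ S ∧ P (tgtR r x) = 0))

theorem extends_mov {X' X S : List ℕ} {P P' : ℕ → F} (h : Extends X S P) (hsub : ∀ x ∈ X', x ∈ X)
    {r : ℕ} (hr : r ∈ X) (hP : ∀ x ∈ S, P' x = P x) :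
    Mov r (X' ++ S) ∧ ∀ x ∈ X' ++ S, sgnR r x = 0 ∨ P' (tgtR r x) = 0 := by
  have hin : ∀ x ∈ X' ++ S, x ∈ X ++ S := fun x hx =>
    List.mem_append.2 ((List.mem_append.1 hx).imp (hsub x) id)
  refine ⟨⟨(h r hr).1, fun x hx => ?_⟩, fun x hx => ?_⟩
  · obtain ⟨h1, h2, h3⟩ := (h r hr).2 x (hin x hx)
    exact ⟨h1, h2, h3.imp id fun h4 => List.mem_append_right _ h4.1⟩
  · obtain ⟨-, -, h3⟩ := (h r hr).2 x (hin x hx)
    exact h3.imp id fun h4 => by rw [hP _ h4.1, h4.2]

theorem W_cons (r : ℕ) (S : List ℕ) (P : ℕ → F) :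
    W ρ ψ (r :: S) P = G2MinDeg.eig ρ eX ψ r (P r) ⊓ W ρ ψ S P := rfl

open scoped Classical in
/-- A subspace containing all the finer eigenspaces contains the coarse one. -/
theorem induct_slices (hψ : ψ.IsPrimitive) {X S : List ℕ} {P : ℕ → F} (h : Extends X S P)
    {S0 : Submodule ℂ V}
    (hS0 : ∀ P' : ℕ → F, (∀ x ∈ S, P' x = P x) → W ρ ψ (X ++ S) P' ≤ S0) :
    W ρ ψ S P ≤ S0 := by
  suffices key : ∀ X' : List ℕ, (∀ x ∈ X', x ∈ X) →
      (∀ P' : ℕ → F, (∀ x ∈ S, P' x = P x) → W ρ ψ (X' ++ S) P' ≤ S0) → W ρ ψ S P ≤ S0 from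
    key X (fun _ hx => hx) hS0
  intro X'
  induction X' with
  | nil => exact fun _ h0 => h0 P fun _ _ => rfl
  | cons r X' ih =>
    intro hsub h0
    refine ih (fun x hx => hsub x (List.mem_cons_of_mem _ hx)) fun P' hP' => ?_
    by_cases hr : r ∈ X' ++ S
    · refine le_trans (W_mono ρ ψ fun x hx => ⟨?_, rfl⟩) (h0 P' hP')
      rcases List.mem_cons.1 (List.cons_append (a := r) ▸ hx) with rfl | hx'
      · exact hr
      · exact hx'
    intro v hv
    rw [← sum_proj ρ (eX r) v]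
    refine Submodule.sum_mem _ fun χ _ => ?_
    obtain ⟨a, ha, -⟩ := exists_mulShift hψ χ
    have eχ : ψ.mulShift a = χ := by
      ext c
      rw [AddChar.mulShift_apply, ha, mul_comm]
    obtain ⟨hm, hpres⟩ := extends_mov (X' := X') h (fun x hx => hsub x (List.mem_cons_of_mem _ hx))
      (hsub r (List.mem_cons_self ..)) hP'
    refine h0 (Function.update P' r a) (fun x hx => ?_) ?_
    · rw [Function.update_of_ne (fun e => hr (by rw [← e]; exact List.mem_append_right _ hx)), hP' x hx]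
    · rw [List.cons_append, W_cons, Function.update_self]
      refine ⟨?_, ?_⟩
      · show proj ρ (eX r) χ v ∈ weight ρ (eX r) (ψ.mulShift a)
        rw [eχ]
        exact proj_mem ρ (eX r) χ v
      · rw [W_congr ρ ψ (P' := P') fun x hx =>
          Function.update_of_ne (fun e => hr (by rw [← e]; exact hx)) _ _, proj_apply]
        exact Submodule.smul_mem _ _ (Submodule.sum_mem _ fun u _ =>
          Submodule.smul_mem _ _ (preserve ρ ψ hm u hpres hv))

theorem exists_extension (hψ : ψ.IsPrimitive) {X S : List ℕ} {P : ℕ → F} (h : Extends X S P)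
    (hne : W ρ ψ S P ≠ ⊥) :
    ∃ P' : ℕ → F, (∀ x ∈ S, P' x = P x) ∧ W ρ ψ (X ++ S) P' ≠ ⊥ := by
  by_contra hc
  push Not at hc
  exact hne (le_bot_iff.1 (induct_slices ρ ψ hψ h fun P' hP' => (hc P' hP').le))

/-- The slices of one root fill an eigenspace. -/
theorem sum_one (hψ : ψ.IsPrimitive) {r : ℕ} {S : List ℕ} {P : ℕ → F} (hm : Mov r S)
    (h0 : ∀ x ∈ S, sgnR r x = 0 ∨ P (tgtR r x) = 0) (hr : r ∉ S) :
    ∑ a : F, dW ρ ψ (r :: S) (Function.update P r a) = dW ρ ψ S P := by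
  refine Eq.trans (Finset.sum_congr rfl fun a _ => ?_)
    (G2MinDeg.sum_slices ρ eX ψ hψ (r := r) (L := S.map fun x => (x, P x))
      fun t v hv => preserve ρ ψ hm t h0 hv)
  rw [dW, W, List.map_cons, Function.update_self]
  rw [List.map_congr_left (g := fun x => (x, P x)) fun x hx => by
    rw [Function.update_of_ne (fun e => hr (by rw [← e]; exact hx))]]

/-- Different characters of the roots of `X` share the eigenspace of `S`. -/
theorem sum_le (hψ : ψ.IsPrimitive) : ∀ {X : List ℕ} {S : List ℕ} {P : ℕ → F},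
    Extends X S P → X.Nodup → (∀ x ∈ X, x ∉ S) → ∀ T : Finset (ℕ → F),
    (∀ f ∈ T, ∀ x ∈ S, f x = P x) → (∀ f ∈ T, ∀ g ∈ T, (∀ x ∈ X, f x = g x) → f = g) →
    ∑ f ∈ T, dW ρ ψ (X ++ S) f ≤ dW ρ ψ S P
  | [], S, P, _, _, _, T, hT, hinj => by
    have h1 : T.card ≤ 1 := Finset.card_le_one.2 fun f hf g hg =>
      hinj f hf g hg fun x hx => absurd hx List.not_mem_nil
    refine le_trans (le_of_eq (Finset.sum_congr rfl fun f hf =>
      dW_congr ρ ψ (P' := P) fun x hx => hT f hf x hx)) ?_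
    rw [Finset.sum_const, smul_eq_mul]
    exact le_trans (Nat.mul_le_mul_right _ h1) (by rw [one_mul, List.nil_append])
  | r :: X, S, P, h, hnd, hdisj, T, hT, hinj => by
    classical
    obtain ⟨hrX, hndX⟩ := List.nodup_cons.1 hnd
    have hr : r ∉ X ++ S := fun e => (List.mem_append.1 e).elim hrX (hdisj r (List.mem_cons_self ..))
    let res : (ℕ → F) → ℕ → F := fun f x => if x ∈ X then f x else P x
    have hX : Extends X S P := fun r' hr' => ⟨(h r' (List.mem_cons_of_mem _ hr')).1,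
      fun x hx => (h r' (List.mem_cons_of_mem _ hr')).2 x (by
        rw [List.cons_append]; exact List.mem_cons_of_mem _ hx)⟩
    have hresS : ∀ f, ∀ x ∈ S, res f x = P x := fun f x hx => by
      show (if x ∈ X then f x else P x) = P x
      rw [if_neg fun hc => hdisj x (List.mem_cons_of_mem _ hc) hx]
    refine le_trans ?_ (sum_le hψ hX hndX (fun x hx => hdisj x (List.mem_cons_of_mem _ hx))
      (T.image res) (fun g hg x hx => ?_) fun g hg g' hg' he => ?_)
    · rw [← Finset.sum_fiberwise_of_maps_to (t := T.image res) (g := res)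
        fun f hf => Finset.mem_image_of_mem res hf]
      refine Finset.sum_le_sum fun Q hQ => ?_
      obtain ⟨f0, -, rfl⟩ := Finset.mem_image.1 hQ
      obtain ⟨hm, hpres⟩ := extends_mov (X' := X) h (fun x hx => List.mem_cons_of_mem _ hx)
        (List.mem_cons_self ..) (hresS f0)
      rw [← sum_one ρ ψ hψ hm hpres hr]
      have hval : ∀ f ∈ T.filter fun f => res f = res f0, ∀ x ∈ (r :: X) ++ S,
          f x = Function.update (res f0) r (f r) x := by
        intro f hf x hx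
        obtain ⟨hfT, hfe⟩ := Finset.mem_filter.1 hf
        rcases eq_or_ne x r with rfl | hxr
        · rw [Function.update_self]
        rw [Function.update_of_ne hxr, ← hfe]
        show f x = if x ∈ X then f x else P x
        split_ifs with hxX
        · rfl
        · refine hT f hfT x ?_
          rw [List.cons_append] at hx
          exact (List.mem_append.1 ((List.mem_cons.1 hx).resolve_left hxr)).resolve_left hxX
      rw [Finset.sum_congr rfl fun f hf => dW_congr ρ ψ (hval f hf), List.cons_append]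
      refine le_of_eq_of_le (Finset.sum_image (g := fun f : ℕ → F => f r)
        (f := fun a => dW ρ ψ (r :: (X ++ S)) (Function.update (res f0) r a))
        fun f hf g hg he => ?_).symm (Finset.sum_le_univ_sum_of_nonneg fun _ => Nat.zero_le _)
      refine hinj f (Finset.mem_filter.1 hf).1 g (Finset.mem_filter.1 hg).1 fun x hx => ?_
      have hx' : x ∈ (r :: X) ++ S := List.mem_append_left _ hx
      rw [hval f hf x hx', hval g hg x hx']
      exact congrArg (fun a => Function.update (res f0) r a x) he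
    · obtain ⟨f, -, rfl⟩ := Finset.mem_image.1 hg
      exact hresS f x hx
    · obtain ⟨f, -, rfl⟩ := Finset.mem_image.1 hg
      obtain ⟨f', -, rfl⟩ := Finset.mem_image.1 hg'
      funext x
      by_cases hx : x ∈ X
      · exact he x hx
      · show (if x ∈ X then f x else P x) = if x ∈ X then f' x else P x
        rw [if_neg hx, if_neg hx]

/-- The bound from an indexed family of characters. -/
theorem card_mul_le (hψ : ψ.IsPrimitive) {X S : List ℕ} {P : ℕ → F} (h : Extends X S P)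
    (hnd : X.Nodup) (hdisj : ∀ x ∈ X, x ∉ S) {ι : Type*} [Fintype ι] (f : ι → ℕ → F) {m : ℕ}
    (hS : ∀ i, ∀ x ∈ S, f i x = P x) (hinj : ∀ i j, (∀ x ∈ X, f i x = f j x) → i = j)
    (hm : ∀ i, m ≤ dW ρ ψ (X ++ S) (f i)) : Fintype.card ι * m ≤ dW ρ ψ S P := by
  classical
  have h1 := sum_le ρ ψ hψ h hnd hdisj (Finset.univ.image f)
    (fun g hg x hx => by
      obtain ⟨i, -, rfl⟩ := Finset.mem_image.1 hg
      exact hS i x hx)
    (fun g hg g' hg' he => by
      obtain ⟨i, -, rfl⟩ := Finset.mem_image.1 hg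
      obtain ⟨j, -, rfl⟩ := Finset.mem_image.1 hg'
      rw [hinj i j he])
  rw [Finset.sum_image fun i _ j _ he => hinj i j fun x _ => by rw [he]] at h1
  refine le_trans ?_ h1
  rw [← smul_eq_mul, ← Finset.card_univ]
  exact Finset.card_nsmul_le_sum _ _ _ fun i _ => hm i

/-- A torus element changes the value at one root. -/
theorem dW_dl_torus {S : List ℕ} (hS : ∀ x ∈ S, x < 240) {s : ℕ} {j : Fin 8}
    (hj : T8.cart j.val s = 1 ∨ T8.cart j.val s = -1) {a b : F} (ha : a ≠ 0) (hb : b ≠ 0) :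
    dW ρ ψ S (dl s a) ≤ dW ρ ψ S (dl s b) := by
  obtain ⟨u, hu⟩ : ∃ u : Fˣ, b * ((u ^ T8.cart j.val s : Fˣ) : F) = a := by
    rcases hj with h | h <;> rw [h]
    · refine ⟨Units.mk0 (a / b) (div_ne_zero ha hb), ?_⟩
      rw [zpow_one, Units.val_mk0]
      field_simp
    · refine ⟨Units.mk0 (b / a) (div_ne_zero hb ha), ?_⟩
      rw [zpow_neg, zpow_one, Units.val_inv_eq_inv_val, Units.val_mk0]
      field_simp
  refine dW_le_of_maps ρ ψ (tor j u) fun v hv =>
    maps_W ρ ψ _ (fun y hy => ⟨y, hy, _, Units.ne_zero _, fun t => tor_conj j (hS y hy) u t, ?_⟩) hv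
  rcases eq_or_ne y s with rfl | hy'
  · rw [dl_self, dl_self, hu]
  · rw [dl_ne _ hy', dl_ne _ hy', zero_mul]

/-- The root element maps the eigenspace of a larger list to that of a smaller one. -/
def MovTo (r : ℕ) (S K : List ℕ) (s : ℕ) : Prop :=
  r < 240 ∧ ∀ x ∈ S, x < 240 ∧ x ≠ 239 - r ∧
    (sgnR r x = 0 ∨ (tgtR r x ∈ K ∧ tgtR r x ≠ s))

instance (r : ℕ) (S K : List ℕ) (s : ℕ) : Decidable (MovTo r S K s) :=
  inferInstanceAs (Decidable (_ ∧ _))

theorem translate_to {r : ℕ} {S K : List ℕ} {s : ℕ} (hm : MovTo r S K s) (hSK : ∀ x ∈ S, x ∈ K)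
    (t : F) {a : F} {v : V} (hv : v ∈ W ρ ψ K (dl s a)) :
    ρ (xg r t) v ∈ W ρ ψ S (dl s a) := by
  refine (mem_W ρ ψ).2 fun x hx u => ?_
  obtain ⟨hx240, hxn, hc⟩ := hm.2 x hx
  refine eigen_translate ρ (xg_swap hm.1 hx240 hxn t u) ?_
  have hk : ρ (xg (tgtR r x) (-((sgnR r x : F) * t * u))) v = v := by
    rcases hc with h0 | ⟨hk, hks⟩
    · simp [h0, xg_zero]
    · simpa [dl_ne a hks] using (mem_W ρ ψ).1 hv _ hk (-((sgnR r x : F) * t * u))
  rw [map_mul, Module.End.mul_apply, hk]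
  exact (mem_W ρ ψ).1 hv x (hSK x hx) u

end Eigen

end CfsgLib.E8MinDeg
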