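import Cfsg.Agent.E8MinDeg.Data

/-!
Each step of the chain of radicals gives as many characters as the orbit of a root.
-/

set_option autoImplicit false
set_option linter.style.haveILetI false
set_option linter.unusedSectionVars false

namespace CfsgLib.E8MinDeg

open Cfsg.Lie CfsgLib.Chev CfsgLib.Chev.Tab Module CfsgLib.MinDeg

variable {F : Type*} [Field F]

open scoped Classical in
/-- Parameters on a list extended by zero. -/
noncomputable def ext0 {R : List ℕ} (t : R.toFinset → F) (r : ℕ) : F :=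
  if h : r ∈ R.toFinset then t ⟨r, h⟩ else 0

theorem ext0_inj {R : List ℕ} {t t' : R.toFinset → F}
    (h : ∀ r ∈ R, ext0 t r = ext0 t' r) : t = t' := by
  funext ⟨r, hr⟩
  have := h r (List.mem_toFinset.1 hr)
  simpa [ext0, hr] using this

variable [Fintype F] {V : Type*} [AddCommGroup V] [Module ℂ V] [FiniteDimensional ℂ V]
  (ρ : Representation ℂ (chevE8.group F) V) (ψ : AddChar F ℂ)

/-- The characters reached by a list of moving roots are different and at least as frequent. -/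
theorem family_le {S : List ℕ} {β : ℕ} {R : List ℕ} (hR : Exact S β R) (t : R.toFinset → F)
    (P : ℕ → F) : dW ρ ψ S P ≤ dW ρ ψ S (mvs (R.map fun r => (r, ext0 t r)) P) :=
  dW_le_mvs ρ ψ (fun p hp => by
    obtain ⟨r, hr, rfl⟩ := List.mem_map.1 hp
    exact (hR.2.2 r hr).1) P

theorem card_ext {R : List ℕ} (h : R.Nodup) :
    Fintype.card (R.toFinset → F) = Fintype.card F ^ R.length := by
  rw [Fintype.card_fun, Fintype.card_coe, List.toFinset_card_of_nodup h]

/-- The number of characters in a step of the chain. -/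
def lvlCard (q : ℕ) (l : Lvl) : ℕ := (q - 1) * (l.piv.map fun p => q ^ p.2.2.length).sum

/-- The count of one step. -/
theorem lvl_count (hψ : ψ.IsPrimitive) {l : Lvl} (hl : l ∈ lvls) {m : ℕ}
    (hm : ∀ a : F, a ≠ 0 → m ≤ dW ρ ψ (l.Q ++ l.K) (dl l.s a)) :
    lvlCard (Fintype.card F) l * m + dW ρ ψ (l.Q ++ l.K) (fun _ => 0) ≤
      dW ρ ψ l.K (fun _ => 0) := by
  classical
  obtain ⟨hnd, hdisj, hQ, hpnd, hpiv⟩ := chk_lvls l hl
  let ι := Σ p : Fin l.piv.length, Fˣ × ((l.piv[p]).2.2.toFinset → F)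
  let f : ι → ℕ → F := fun i => mvs ((l.piv[i.1]).2.2.map fun r => (r, ext0 i.2.2 r))
    (dl (l.piv[i.1]).1 (i.2.1 : F))
  have hmem : ∀ p : Fin l.piv.length, l.piv[p] ∈ l.piv := fun p => List.getElem_mem _
  have hzero : ∀ (i : ι) (x : ℕ), (x ∈ l.K ∨ (x ∈ l.Q ++ l.K ∧ (l.piv[i.1]).1 < x)) →
      f i x = 0 := by
    intro i x hx
    obtain ⟨hβ, -, -, -, -, -, hz⟩ := hpiv _ (hmem i.1)
    refine mvs_zero (Z := fun y => y ∈ l.K ∨ (y ∈ l.Q ++ l.K ∧ (l.piv[i.1]).1 < y))
      (fun p hp y hy => ?_) (fun y hy => dl_ne _ ?_) x hx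
    · obtain ⟨r, hr, rfl⟩ := List.mem_map.1 hp
      exact hz r hr y (hy.elim (fun h => List.mem_append_right _ h) And.left) (hy.imp id And.right)
    · intro e
      rcases hy with h | ⟨-, h⟩
      · exact hdisj _ hβ (e ▸ h)
      · omega
  have hval : ∀ i : ι, f i (l.piv[i.1]).1 = (i.2.1 : F) := fun i => by
    obtain ⟨-, -, -, -, hex, -, -⟩ := hpiv _ (hmem i.1)
    show mvs _ _ _ = _
    rw [(mvs_exact hex (ext0 i.2.2) _).1, dl_self]
  have hlast : ∀ (i j : ι), (∀ x ∈ l.Q, f i x = f j x) → (l.piv[i.1]).1 ≤ (l.piv[j.1]).1 := by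
    intro i j h
    by_contra hc
    have h1 := h _ (hpiv _ (hmem i.1)).1
    rw [hval, hzero j _ (Or.inr ⟨List.mem_append_left _ (hpiv _ (hmem i.1)).1, by omega⟩)] at h1
    exact i.2.1.ne_zero h1
  have hinj : ∀ i j : ι, (∀ x ∈ l.Q, f i x = f j x) → i = j := by
    intro i j h
    have hβ : (l.piv[i.1]).1 = (l.piv[j.1]).1 :=
      le_antisymm (hlast i j h) (hlast j i fun x hx => (h x hx).symm)
    obtain ⟨p, u, t⟩ := i
    obtain ⟨p', u', t'⟩ := j
    have hp : p = p' := by
      refine Fin.ext ((hpnd.getElem_inj_iff (hi := by simp) (hj := by simp)).1 ?_)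
      simpa using hβ
    subst hp
    obtain ⟨hβQ, -, -, -, hex, hsrc, -⟩ := hpiv _ (hmem p)
    have hu : u = u' := Units.ext ((hval ⟨p, u, t⟩).symm.trans
      ((h _ hβQ).trans (hval ⟨p, u', t'⟩)))
    subst hu
    have ht : t = t' := ext0_inj fun r hr => by
      obtain ⟨hm, -, hs, hne', -, -⟩ := hex.2.2 r hr
      have hc := sgn_cast_ne (F := F) hm.1 (hm.2 _ hs).1 (hm.2 _ hs).2.1 hne'
      have h' := h _ (hsrc r hr)
      simp only [f] at h'
      rw [(mvs_exact hex (ext0 t) _).2 r hr, (mvs_exact hex (ext0 t') _).2 r hr,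
        sub_right_inj, dl_self] at h'
      exact mul_left_cancel₀ hc (mul_right_cancel₀ u.ne_zero h')
    rw [ht]
  have hge : ∀ i : ι, m ≤ dW ρ ψ (l.Q ++ l.K) (f i) := by
    intro i
    obtain ⟨hβQ, -, hs, hperm, hex, -, -⟩ := hpiv _ (hmem i.1)
    set w := (l.piv[i.1]).2.1 with hw
    set β := (l.piv[i.1]).1 with hβ
    have hs72 : l.s < 240 := (by decide +kernel : ∀ l ∈ lvls, l.s < 240) l hl
    refine le_trans (le_trans (hm ((i.2.1 : F) * (wS w l.s : F))
        (mul_ne_zero i.2.1.ne_zero fun h0 => by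
          have := wS_sq (F := F) w hs72
          rw [h0, zero_mul] at this
          exact zero_ne_one this)) ?_) (family_le ρ ψ hex i.2.2 (dl β (i.2.1 : F)))
    refine dW_le_of_maps ρ ψ (nW w) fun v hv => maps_W ρ ψ _ (fun y hy => ?_) hv
    obtain ⟨x, hx, hxy, hiff⟩ := hperm y hy
    have hx72 : x < 240 := ((hQ _ hβQ).2 x hx).1
    refine ⟨x, hx, (wS w x : F), fun h0 => ?_, fun u => hxy ▸ nW_conj w hx72 u, ?_⟩
    · have := wS_sq (F := F) w hx72
      rw [h0, zero_mul] at this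
      exact zero_ne_one this
    · by_cases hxs : x = l.s
      · rw [hiff.2 hxs, dl_self, hxs, dl_self]
      · rw [dl_ne _ (fun e => hxs (hiff.1 e)), dl_ne _ hxs, zero_mul]
  have hext : Extends l.Q l.K (fun _ => (0 : F)) := fun r hr => ⟨(hQ r hr).1, fun x hx =>
    ⟨((hQ r hr).2 x hx).1, ((hQ r hr).2 x hx).2.1,
      ((hQ r hr).2 x hx).2.2.imp id fun h => ⟨h, rfl⟩⟩⟩
  have hne0 : ∀ i, f i ≠ fun _ => 0 := fun i e =>
    i.2.1.ne_zero ((hval i).symm.trans (congrFun e _))
  have hfinj : Function.Injective f := fun i j e => hinj i j fun x _ => congrFun e x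
  have key := sum_le ρ ψ hψ hext hnd hdisj (insert (fun _ => 0) (Finset.univ.image f))
    (fun g hg x hx => by
      rcases Finset.mem_insert.1 hg with rfl | hg'
      · rfl
      · obtain ⟨i, -, rfl⟩ := Finset.mem_image.1 hg'
        exact hzero i x (Or.inl hx))
    (fun g hg g' hg' he => by
      rcases Finset.mem_insert.1 hg with rfl | hg1 <;> rcases Finset.mem_insert.1 hg' with rfl | hg2
      · rfl
      · obtain ⟨j, -, rfl⟩ := Finset.mem_image.1 hg2
        exact absurd ((hval j).symm.trans (he _ (hpiv _ (hmem j.1)).1).symm) j.2.1.ne_zero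
      · obtain ⟨i, -, rfl⟩ := Finset.mem_image.1 hg1
        exact absurd ((hval i).symm.trans (he _ (hpiv _ (hmem i.1)).1)) i.2.1.ne_zero
      · obtain ⟨i, -, rfl⟩ := Finset.mem_image.1 hg1
        obtain ⟨j, -, rfl⟩ := Finset.mem_image.1 hg2
        rw [hinj i j he])
  rw [Finset.sum_insert (by simpa using hne0), Finset.sum_image fun i _ j _ e => hfinj e] at key
  have hcard : Fintype.card ι = lvlCard (Fintype.card F) l := by
    rw [Fintype.card_sigma, lvlCard, ← List.sum_map_mul_left]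
    rw [Finset.sum_congr rfl fun p _ => by
      rw [Fintype.card_prod, Fintype.card_units, card_ext (hpiv _ (hmem p)).2.1]]
    exact Fin.sum_univ_fun_getElem l.piv
      (fun p => (Fintype.card F - 1) * Fintype.card F ^ p.2.2.length)
  have h2 : Fintype.card ι * m ≤ ∑ i, dW ρ ψ (l.Q ++ l.K) (f i) := by
    rw [← smul_eq_mul, ← Finset.card_univ]
    exact Finset.card_nsmul_le_sum _ _ _ fun i _ => hge i
  rw [hcard] at h2
  omega

end CfsgLib.E8MinDeg
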