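import Cfsg.Agent.E8MinDeg.Fixed

/-!
The torus fixes every vector fixed by the positive root subgroups.
-/

set_option autoImplicit false
set_option linter.style.haveILetI false
set_option linter.unusedSectionVars false

namespace CfsgLib.E8MinDeg

open Cfsg.Lie CfsgLib.Chev CfsgLib.Chev.Tab Module CfsgLib.MinDeg

/-- The positive roots other than one fundamental root. -/
def posX (i : Fin 8) : List ℕ := posL.filter fun x => x != sR i

theorem mem_posX {i : Fin 8} {x : ℕ} : x ∈ posX i ↔ x ∈ posL ∧ x ≠ sR i := by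
  simp [posX]

theorem chk_simple : ∀ i : Fin 8, 120 ≤ sR i ∧ T8.reflT i.val (239 - sR i) = sR i ∧
    T8.reflT i.val (sR i) = 239 - sR i ∧ T8.cart i.val (sR i) = 2 ∧ T8.sgn i.val (sR i) = -1 ∧
    (∀ y ∈ posX i, ∃ x ∈ posX i, T8.reflT i.val x = y) ∧ Mov (sR i) (posX i) ∧
    (∀ r ∈ posL, Mov r (posX i)) ∧
    ∀ j : Fin 8, T8.cart j.val (sR i) = T8.cart i.val (sR j) ∧
      (T8.cart i.val (sR j) = 0 → T8.reflT i.val (sR j) = sR j) := by decide +kernel

variable {F : Type*} [Field F]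

/-- The torus as a homomorphism from an additive group. -/
noncomputable def eTor :
    Multiplicative (Fin chevE8.rank → Additive Fˣ) →* chevE8.group F :=
  MonoidHom.mk' (fun x => ⟨T8.hT F (fun i => (x.toAdd i).toMul), good_E8.diagonal_le_group (by
    rw [good_E8.full.diagonal_eq_range]
    exact ⟨_, rfl⟩)⟩) fun a b => Subtype.ext (map_mul (T8.hT F) _ _)

theorem eTor_single (i : Fin 8) (u : Fˣ) :
    eTor (F := F) (Multiplicative.ofAdd (Pi.single (ix i) (Additive.ofMul u))) = tor i u := by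
  refine Subtype.ext ?_
  show T8.hT F _ = T8.hT F _
  congr 1

theorem tor_swap (i : Fin 8) (u : Fˣ) : tor i u * nF (F := F) i = nF i * tor i u⁻¹ := by
  have h := tor_nF i i u
  rw [(chk_simple i).2.2.2.1, zpow_ofNat, pow_two, ← tor_mul, mul_assoc, mul_assoc] at h
  have h' := mul_left_cancel h
  have h1 : tor i (1 : Fˣ) = (1 : chevE8.group F) := by
    have := tor_mul (F := F) i 1 1
    rw [mul_one] at this
    exact mul_eq_left.1 this
  calc tor i u * nF i = tor i u * (nF i * (tor i u * tor i u⁻¹)) := by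
        rw [tor_mul, mul_inv_cancel, h1, mul_one]
    _ = (tor i u * (nF i * tor i u)) * tor i u⁻¹ := by group
    _ = nF i * tor i u⁻¹ := by rw [← h']

theorem tor_past (j i : Fin 8) (u : Fˣ) : tor j u * nF (F := F) i =
    nF i * (tor i (u ^ T8.cart j.val (sR i))⁻¹ * tor j u) := by
  rw [tor_nF, tor_swap, mul_assoc]

theorem nF_sq (i : Fin 8) : nF (F := F) i * nF i = tor i (-1) := by
  have h := nT_eq (F := F) i (-1)
  rw [show ((-1 : Fˣ) : F) = -1 by simp, show nT i (-1 : F) = (nF i)⁻¹ from (nT_inv i 1).symm] at h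
  have h1 : tor i (-1 : Fˣ) * tor i (-1) = (1 : chevE8.group F) := by
    rw [tor_mul, neg_mul_neg, one_mul]
    have := tor_mul (F := F) i 1 1
    rw [mul_one] at this
    exact mul_eq_left.1 this
  calc nF i * nF i = tor i (-1) * tor i (-1) * (nF i * nF i) := by rw [h1, one_mul]
    _ = tor i (-1) * (tor i (-1) * nF i * nF i) := by group
    _ = tor i (-1) := by rw [← h, inv_mul_cancel, mul_one]

theorem nF_opp (i : Fin 8) {v : F} (hv : v ≠ 0) : nF i * xg (sR i) v * nF i =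
    xg (sR i) (-v⁻¹) * nT i v⁻¹ * xg (sR i) (-v⁻¹) * (nF i * nF i) := by
  have h1 : nF i * xg (sR i) v * (nF i)⁻¹ = xg (239 - sR i) (-v) := by
    rw [nF, nT_conj i (simple_lt i) one_ne_zero, (chk_simple i).2.2.1, (chk_simple i).2.2.2.2.1]
    simp
  have h2 : xg (sR i) (-v⁻¹) * nT i v⁻¹ * xg (sR i) (-v⁻¹) = xg (239 - sR i) (-v) := by
    rw [nT_def, inv_inv]
    simp only [← mul_assoc, xg_add, neg_add_cancel, xg_zero, one_mul]
    rw [mul_assoc, xg_add, add_neg_cancel, xg_zero, mul_one]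
  rw [h2, ← h1]
  group

variable [Fintype F] {V : Type*} [AddCommGroup V] [Module ℂ V]
  [FiniteDimensional ℂ V] (ρ : Representation ℂ (chevE8.group F) V) (ψ : AddChar F ℂ)

/-- The sum over a root subgroup. -/
noncomputable def rootSum (r : ℕ) : V →ₗ[ℂ] V := ∑ t : F, ρ (xg r t)

theorem rootSum_apply (r : ℕ) (v : V) : rootSum ρ r v = ∑ t : F, ρ (xg r t) v := by
  simp [rootSum, LinearMap.sum_apply]

theorem rootSum_absorb (r : ℕ) (u : F) (v : V) :
    rootSum ρ r (ρ (xg r u) v) = rootSum ρ r v := by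
  rw [rootSum_apply, rootSum_apply]
  refine Fintype.sum_equiv (Equiv.addRight u) _ _ fun t => ?_
  rw [← Module.End.mul_apply, ← map_mul, xg_add, Equiv.coe_addRight]

theorem rootSum_shift (r : ℕ) (u : F) (v : V) :
    ρ (xg r u) (rootSum ρ r v) = rootSum ρ r v := by
  rw [rootSum_apply, map_sum]
  refine Fintype.sum_equiv (Equiv.addLeft u) _ _ fun t => ?_
  rw [← Module.End.mul_apply, ← map_mul, xg_add, Equiv.coe_addLeft]

/-- The vectors fixed by the positive root subgroups. -/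
noncomputable def fixU : Submodule ℂ V := W ρ ψ posL (fun _ => 0)

theorem fix_apply {v : V} (hv : v ∈ fixU ρ ψ) {x : ℕ} (hx : x ∈ posL) (u : F) :
    ρ (xg x u) v = v := by simpa using (mem_W ρ ψ).1 hv x hx u

theorem sR_mem (i : Fin 8) : sR i ∈ posL := mem_posL.2 ⟨(chk_simple i).1, simple_lt i⟩

theorem nT_mem {i : Fin 8} {t : F} (ht : t ≠ 0) {f : V} (hf : f ∈ fixU ρ ψ) :
    ρ (nT i t) f ∈ W ρ ψ (posX i) (fun _ => 0) := by
  refine maps_W ρ ψ _ (fun y hy => ?_) hf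
  obtain ⟨x, hx, hxy⟩ := (chk_simple i).2.2.2.2.2.1 y hy
  have hx' := (mem_posX.1 hx).1
  obtain ⟨c, hc, hc'⟩ := nT_act i (s := x) (mem_posL.1 hx').2 ht
  exact ⟨x, hx', c, hc, fun u => hxy ▸ hc' u, by simp⟩

theorem mem_fix_of {i : Fin 8} {v : V} (hv : v ∈ W ρ ψ (posX i) (fun _ => 0))
    (h : ∀ u, ρ (xg (sR i) u) v = v) : v ∈ fixU ρ ψ := (mem_W ρ ψ).2 fun x hx u => by
  rcases eq_or_ne x (sR i) with rfl | hne
  · simp [h u]
  · exact (mem_W ρ ψ).1 hv x (mem_posX.2 ⟨hx, hne⟩) u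

/-- If the translate by a reflection is fixed, so is the vector by the opposite root subgroup. -/
theorem neg_fix {i : Fin 8} {f : V} (h : ∀ u, ρ (xg (sR i) u) (ρ (nF i) f) = ρ (nF i) f) (u : F) :
    ρ (xg (239 - sR i) u) f = f := by
  obtain ⟨c, hc, hc'⟩ := nT_act i (s := 239 - sR i) (by omega) (one_ne_zero (α := F))
  rw [(chk_simple i).2.1] at hc'
  have e : nF i * xg (239 - sR i) u = xg (sR i) (c * u) * nF i := mul_inv_eq_iff_eq_mul.1 (hc' u)
  by_contra hne
  refine rho_inj ρ (g := nF i) (sub_ne_zero.2 hne) ?_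
  rw [map_sub, sub_eq_zero, ← Module.End.mul_apply, ← map_mul, e, map_mul, Module.End.mul_apply,
    h (c * u)]

theorem nT_fix {i : Fin 8} {f : V} (hp : ∀ u, ρ (xg (sR i) u) f = f)
    (hm : ∀ u, ρ (xg (239 - sR i) u) f = f) (t : F) : ρ (nT i t) f = f := by
  rw [nT_def, map_mul, map_mul, Module.End.mul_apply, Module.End.mul_apply, hp, hm, hp]

theorem tor_fix {i : Fin 8} {f : V} (hp : ∀ u, ρ (xg (sR i) u) f = f)
    (hm : ∀ u, ρ (xg (239 - sR i) u) f = f) (u : Fˣ) : ρ (tor i u) f = f := by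
  have h := nT_fix ρ hp hm (u : F)
  rwa [nT_eq, map_mul, Module.End.mul_apply, show ρ (nF i) f = f from nT_fix ρ hp hm 1] at h

/-- The component of the translate by a reflection with a given character. -/
noncomputable def comp (i : Fin 8) (a : F) : V →ₗ[ℂ] V :=
  (proj ρ (eX (sR i)) (ψ.mulShift a)).comp (ρ (nF i))

theorem comp_mem {i : Fin 8} {a : F} {f : V} (hf : f ∈ fixU ρ ψ) :
    comp ρ ψ i a f ∈ W ρ ψ posL (dl (sR i) a) := by
  have h1 : comp ρ ψ i a f ∈ W ρ ψ (posX i) (fun _ => 0) := by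
    rw [comp, LinearMap.comp_apply, proj_apply]
    exact Submodule.smul_mem _ _ (Submodule.sum_mem _ fun u _ => Submodule.smul_mem _ _
      (preserve ρ ψ (chk_simple i).2.2.2.2.2.2.1 u (fun _ _ => Or.inr rfl)
        (nT_mem ρ ψ one_ne_zero hf)))
  refine (mem_W ρ ψ).2 fun x hx u => ?_
  rcases eq_or_ne x (sR i) with rfl | hne
  · rw [dl_self, ← eX_apply, ← AddChar.mulShift_apply]
    exact proj_mem ρ (eX (sR i)) (ψ.mulShift a) _ u
  · rw [dl_ne _ hne]
    exact (mem_W ρ ψ).1 h1 x (mem_posX.2 ⟨hx, hne⟩) u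

theorem fix_of_proj {i : Fin 8} (hψ : ψ.IsPrimitive) {g : V}
    (h : ∀ a : F, a ≠ 0 → proj ρ (eX (sR i)) (ψ.mulShift a) g = 0) (u : F) :
    ρ (xg (sR i) u) g = g := by
  classical
  conv_lhs => rw [← sum_proj ρ (eX (sR i)) g]
  conv_rhs => rw [← sum_proj ρ (eX (sR i)) g]
  rw [map_sum]
  refine Finset.sum_congr rfl fun χ _ => ?_
  obtain ⟨a, ha, -⟩ := exists_mulShift hψ χ
  have eχ : ψ.mulShift a = χ := by
    ext c
    rw [AddChar.mulShift_apply, ha, mul_comm]
  rw [← eχ]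
  rcases eq_or_ne a 0 with rfl | ha0
  · have h1 := proj_mem ρ (eX (sR i)) (ψ.mulShift (0 : F)) g u
    rw [AddChar.mulShift_apply, zero_mul, AddChar.map_zero_eq_one, one_smul] at h1
    exact h1
  · rw [h a ha0, map_zero]

/-- An eigenvector of the torus. -/
def Eig (f : V) : Prop :=
  f ∈ fixU ρ ψ ∧ f ≠ 0 ∧ ∀ (i : Fin 8) (u : Fˣ), ∃ c : ℂ, ρ (tor i u) f = c • f

/-- The node acts non-trivially on the vector. -/
def Nt (f : V) (i : Fin 8) : Prop := ∃ u : Fˣ, ρ (tor i u) f ≠ f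

/-- The Hecke operator of a node. -/
noncomputable def hecke (i : Fin 8) : V →ₗ[ℂ] V := (rootSum ρ (sR i)).comp (ρ (nF i))

theorem hecke_mem {i : Fin 8} {f : V} (hf : f ∈ fixU ρ ψ) : hecke ρ i f ∈ fixU ρ ψ := by
  refine mem_fix_of ρ ψ (i := i) ?_ fun u => rootSum_shift ρ _ u _
  rw [hecke, LinearMap.comp_apply, rootSum_apply]
  exact Submodule.sum_mem _ fun u _ => preserve ρ ψ (chk_simple i).2.2.2.2.2.2.1 u
    (fun _ _ => Or.inr rfl) (nT_mem ρ ψ one_ne_zero hf)

theorem tor_hecke (j i : Fin 8) (u : Fˣ) (f : V) : ρ (tor j u) (hecke ρ i f) =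
    hecke ρ i (ρ (tor i (u ^ T8.cart j.val (sR i))⁻¹) (ρ (tor j u) f)) := by
  rw [hecke, LinearMap.comp_apply, LinearMap.comp_apply, rootSum_apply, rootSum_apply, map_sum,
    ← Module.End.mul_apply, ← map_mul, ← Module.End.mul_apply, ← map_mul,
    mul_assoc (nF i), ← tor_past]
  refine Fintype.sum_equiv (Equiv.mulLeft₀ ((u ^ T8.cart j.val (sR i) : Fˣ) : F)
    (Units.ne_zero _)) _ _ fun t => ?_
  rw [← Module.End.mul_apply, ← map_mul, ← Module.End.mul_apply, ← map_mul,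
    ← Module.End.mul_apply, ← map_mul]
  congr 2
  show _ = xg (sR i) (((u ^ T8.cart j.val (sR i) : Fˣ) : F) * t) * _
  rw [← tor_conj j (simple_lt i) u t]
  group

theorem hecke_ne {i : Fin 8} {f : V} (hf : Eig ρ ψ f) : hecke ρ i f ≠ 0 := by
  classical
  intro h0
  have hterm : ∀ v : F, v ≠ 0 →
      ∃ c : ℂ, ρ (nF i * xg (sR i) v * nF i) f = c • ρ (xg (sR i) (-v⁻¹) * nF i) f := by
    intro v hv
    obtain ⟨c, hc⟩ := hf.2.2 i (-1)
    obtain ⟨d, hd⟩ := hf.2.2 i (Units.mk0 v⁻¹ (inv_ne_zero hv))⁻¹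
    refine ⟨c * d, ?_⟩
    rw [nF_opp i hv, nF_sq, map_mul, map_mul, Module.End.mul_apply, Module.End.mul_apply, hc,
      map_smul, fix_apply ρ ψ hf.1 (sR_mem i), show (v⁻¹ : F) = ((Units.mk0 v⁻¹ (inv_ne_zero hv) : Fˣ) : F)
        from rfl, nT_eq, tor_swap, map_smul, map_mul, map_mul, Module.End.mul_apply,
      Module.End.mul_apply, hd, map_smul, map_smul, smul_smul]
    simp only [map_mul, Module.End.mul_apply]
  have h1 : ρ (nF i) (hecke ρ i f) = 0 := by rw [h0, map_zero]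
  rw [hecke, LinearMap.comp_apply, rootSum_apply, map_sum] at h1
  have h2 := congrArg (rootSum ρ (sR i)) h1
  rw [map_zero, map_sum, ← Finset.add_sum_erase Finset.univ _ (Finset.mem_univ (0 : F)),
    Finset.sum_eq_zero (s := Finset.univ.erase (0 : F)) (fun v hv => ?_), add_zero] at h2
  · obtain ⟨c, hc⟩ := hf.2.2 i (-1)
    rw [xg_zero, map_one, Module.End.one_apply, ← Module.End.mul_apply (ρ (nF i)), ← map_mul, nF_sq, hc,
      map_smul, rootSum_apply, Finset.sum_congr rfl fun u _ => fix_apply ρ ψ hf.1 (sR_mem i) u,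
      Finset.sum_const, Finset.card_univ, ← Nat.cast_smul_eq_nsmul ℂ, smul_smul] at h2
    rcases smul_eq_zero.1 h2 with h | h
    · rcases mul_eq_zero.1 h with rfl | h'
      · rw [zero_smul] at hc
        exact rho_inj ρ hf.2.1 hc
      · simp at h'
    · exact hf.2.1 h
  · obtain ⟨c, hc⟩ := hterm v (Finset.ne_of_mem_erase hv)
    rw [← Module.End.mul_apply (ρ (xg (sR i) v)), ← map_mul,
      ← Module.End.mul_apply (ρ (nF i)), ← map_mul, ← mul_assoc, hc, map_smul, map_mul,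
      Module.End.mul_apply, rootSum_absorb]
    have : rootSum ρ (sR i) (ρ (nF i) f) = 0 := h0
    rw [this, smul_zero]

theorem eig_hecke {i : Fin 8} {f : V} (hf : Eig ρ ψ f) : Eig ρ ψ (hecke ρ i f) := by
  refine ⟨hecke_mem ρ ψ hf.1, hecke_ne ρ ψ hf, fun j u => ?_⟩
  obtain ⟨c, hc⟩ := hf.2.2 j u
  obtain ⟨d, hd⟩ := hf.2.2 i (u ^ T8.cart j.val (sR i))⁻¹
  exact ⟨c * d, by rw [tor_hecke, hc, map_smul, map_smul, hd, map_smul, smul_smul]⟩

theorem nt_hecke {i j : Fin 8} {f : V} (hf : Eig ρ ψ f) (hij : T8.cart j.val (sR i) = -1)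
    (hi : Nt ρ f i) (hj : ¬ Nt ρ f j) : Nt ρ (hecke ρ i f) j := by
  obtain ⟨u, hu⟩ := hi
  simp only [Nt, not_exists, not_not] at hj
  refine ⟨u, fun e => hu ?_⟩
  rw [tor_hecke, hj u, hij, zpow_neg, zpow_one, inv_inv] at e
  obtain ⟨c, hc⟩ := hf.2.2 i u
  rw [hc, map_smul] at e
  rw [hc, smul_left_injective ℂ (hecke_ne ρ ψ hf)
    (show c • hecke ρ i f = (1 : ℂ) • hecke ρ i f by rw [one_smul, e]), one_smul]

variable {ρ ψ} (H : Small ρ ψ)
include H

/-- Next to an orthogonal character the opposite root subgroup acts trivially. -/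
theorem Small.fixed_of_orth {i j : Fin 8} (hij : i ≠ j) (h0 : T8.cart i.val (sR j) = 0) {a : F}
    (ha : a ≠ 0) {z : V} (hz : z ∈ W ρ ψ posL (dl (sR j) a)) :
    (∀ u, ρ (xg (sR i) u) z = z) ∧ (∀ u, ρ (xg (239 - sR i) u) z = z) := by
  have hne : sR i ≠ sR j := fun e =>
    hij ((by decide +kernel : ∀ i j : Fin 8, sR i = sR j → i = j) i j e)
  obtain ⟨-, -, -, -, -, hperm, hmov, -, hsymm⟩ := chk_simple i
  have hfix : (sR j) = T8.reflT i.val (sR j) := ((hsymm j).2 h0).symm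
  obtain ⟨c, hc, hc'⟩ := nT_act i (s := sR j) (simple_lt j) (one_ne_zero (α := F))
  rw [← hfix] at hc'
  set y := ρ (nF i) z with hy
  have hyW : y ∈ W ρ ψ (posX i) (dl (sR j) (a / c)) := by
    refine maps_W ρ ψ _ (fun x hx => ?_) hz
    obtain ⟨x', hx', hxx⟩ := hperm x hx
    have hx'' := (mem_posX.1 hx').1
    by_cases hxj : x' = sR j
    · subst hxj
      rw [← hfix] at hxx
      subst hxx
      exact ⟨sR j, hx'', c, hc, hc', by rw [dl_self, dl_self, div_mul_cancel₀ _ hc]⟩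
    · obtain ⟨d, hd, hd'⟩ := nT_act i (s := x') (mem_posL.1 hx'').2 (one_ne_zero (α := F))
      refine ⟨x', hx'', d, hd, fun u => hxx ▸ hd' u, ?_⟩
      rw [dl_ne _ hxj, dl_ne _, zero_mul]
      intro e
      apply hxj
      have h2 := (good_E8.full.reflT_spec i.isLt (s := x') (mem_posL.1 hx'').2).2.1
      rw [hxx, e, ← hfix] at h2
      exact h2.symm
  have hyfix : ∀ u, ρ (xg (sR i) u) y = y := fix_of_proj ρ ψ H.prim fun b hb => by
    by_contra hne'
    refine hne' ((Submodule.eq_bot_iff _).1 (H.pair2_bot hij hb (div_ne_zero ha hc)) _ ?_)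
    refine (mem_W ρ ψ).2 fun x hx u => ?_
    rcases eq_or_ne x (sR i) with rfl | hxi
    · rw [dl2, if_pos rfl, ← eX_apply, ← AddChar.mulShift_apply]
      exact proj_mem ρ (eX (sR i)) (ψ.mulShift b) y u
    · have hxm := mem_posX.2 ⟨hx, hxi⟩
      have hmem : proj ρ (eX (sR i)) (ψ.mulShift b) y ∈ W ρ ψ (posX i) (dl (sR j) (a / c)) := by
        rw [proj_apply]
        refine Submodule.smul_mem _ _ (Submodule.sum_mem _ fun t _ => Submodule.smul_mem _ _
          (preserve ρ ψ hmov t (fun x hx => ?_) hyW))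
        rcases (by decide +kernel : ∀ i : Fin 8, ∀ x ∈ posX i, ∀ j : Fin 8,
          sgnR (sR i) x = 0 ∨ tgtR (sR i) x ≠ sR j) i x hx j with h | h
        · exact Or.inl h
        · exact Or.inr (dl_ne _ h)
      rw [show dl2 (sR i) b (sR j) (a / c) x = dl (sR j) (a / c) x by
        simp only [dl2, dl, hxi, if_false]]
      exact (mem_W ρ ψ).1 hmem x hxm u
  refine ⟨fun u => ?_, neg_fix ρ hyfix⟩
  simpa [dl_ne a hne] using (mem_W ρ ψ).1 hz (sR i) (sR_mem i) u

theorem Small.not_nt_orth {i j : Fin 8} (hij : i ≠ j) (h0 : T8.cart i.val (sR j) = 0) {f : V}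
    (hf : Eig ρ ψ f) (hi : Nt ρ f i) (hj : Nt ρ f j) : False := by
  obtain ⟨u, hu⟩ := hi
  obtain ⟨v, hv⟩ := hj
  obtain ⟨c, hc⟩ := hf.2.2 i u
  obtain ⟨a, ha, hne⟩ : ∃ a : F, a ≠ 0 ∧ comp ρ ψ j a f ≠ 0 := by
    by_contra h
    push Not at h
    exact hv (tor_fix ρ (fun t => fix_apply ρ ψ hf.1 (sR_mem j) t)
      (neg_fix ρ (fix_of_proj ρ ψ H.prim fun a ha => h a ha)) v)
  obtain ⟨hp, hm⟩ := H.fixed_of_orth hij h0 ha (comp_mem ρ ψ hf.1 (i := j) (a := a))
  have e := tor_fix ρ hp hm u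
  have hcomm : ρ (tor i u) (comp ρ ψ j a f) = c • comp ρ ψ j a f := by
    rw [comp, LinearMap.comp_apply, proj_apply, map_smul, map_sum, smul_comm c, Finset.smul_sum (r := c)]
    congr 1
    refine Finset.sum_congr rfl fun t _ => ?_
    rw [map_smul, smul_comm c]
    congr 1
    have h1 : tor i u * nF j = nF j * tor i u := by
      rw [tor_past, h0, zpow_zero, inv_one]
      have : tor j (1 : Fˣ) = (1 : chevE8.group F) := by
        have := tor_mul (F := F) j 1 1
        rw [mul_one] at this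
        exact mul_eq_left.1 this
      rw [this, one_mul]
    have h2 : tor i u * xg (sR j) t = xg (sR j) t * tor i u := by
      have := tor_conj i (simple_lt j) u t
      rw [h0, zpow_zero, Units.val_one, one_mul, mul_inv_eq_iff_eq_mul] at this
      exact this
    rw [eX_apply, ← Module.End.mul_apply, ← map_mul, h2, map_mul, Module.End.mul_apply,
      ← Module.End.mul_apply (ρ (tor i u)), ← map_mul, h1, map_mul, Module.End.mul_apply, hc,
      map_smul, map_smul]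
  rw [hcomm] at e
  refine hu ?_
  rw [hc, smul_left_injective ℂ hne (show c • comp ρ ψ j a f = (1 : ℂ) • _ by rw [one_smul, e]),
    one_smul]

theorem Small.not_nt4 {f : V} (hf : Eig ρ ψ f) : ¬ Nt ρ f 3 := by
  intro h4
  have hcart : ∀ k : Fin 8, k = 1 ∨ k = 2 ∨ k = 4 → T8.cart k.val (sR 3) = -1 := by
    rintro k (rfl | rfl | rfl) <;> decide +kernel
  have horth : ∀ k l : Fin 8, (k = 1 ∨ k = 2 ∨ k = 4) → (l = 1 ∨ l = 2 ∨ l = 4) → k ≠ l →
      T8.cart k.val (sR l) = 0 := by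
    rintro k l (rfl | rfl | rfl) (rfl | rfl | rfl) h <;> first | exact absurd rfl h | decide +kernel
  obtain ⟨k, l, hk, hl, hkl, nk, nl⟩ : ∃ k l : Fin 8, (k = 1 ∨ k = 2 ∨ k = 4) ∧
      (l = 1 ∨ l = 2 ∨ l = 4) ∧ k ≠ l ∧ ¬ Nt ρ f k ∧ ¬ Nt ρ f l := by
    by_cases n1 : Nt ρ f 1
    · exact ⟨2, 4, by simp, by simp, by decide,
        fun h => H.not_nt_orth (i := 1) (j := 2) (by decide) (horth 1 2 (by simp) (by simp) (by decide)) hf n1 h,
        fun h => H.not_nt_orth (i := 1) (j := 4) (by decide) (horth 1 4 (by simp) (by simp) (by decide)) hf n1 h⟩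
    · by_cases n2 : Nt ρ f 2
      · exact ⟨1, 4, by simp, by simp, by decide, n1,
          fun h => H.not_nt_orth (i := 2) (j := 4) (by decide) (horth 2 4 (by simp) (by simp) (by decide)) hf n2 h⟩
      · exact ⟨1, 2, by simp, by simp, by decide, n1, n2⟩
  exact H.not_nt_orth hkl (horth k l hk hl hkl) (eig_hecke ρ ψ hf)
    (nt_hecke ρ ψ hf (hcart k hk) h4 nk) (nt_hecke ρ ψ hf (hcart l hl) h4 nl)

theorem Small.not_nt {f : V} (hf : Eig ρ ψ f) (i : Fin 8) : ¬ Nt ρ f i := by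
  have step : ∀ i j : Fin 8, T8.cart j.val (sR i) = -1 →
      (∀ g : V, Eig ρ ψ g → ¬ Nt ρ g j) → ∀ g : V, Eig ρ ψ g → ¬ Nt ρ g i :=
    fun i j h hj g hg hi => hj _ (eig_hecke ρ ψ hg) (nt_hecke ρ ψ hg h hi (hj g hg))
  have h3 : ∀ g : V, Eig ρ ψ g → ¬ Nt ρ g 3 := fun g hg => H.not_nt4 hg
  have h2 := step 2 3 (by decide +kernel) h3
  have h4 := step 4 3 (by decide +kernel) h3
  have h5 := step 5 4 (by decide +kernel) h4
  have h6 := step 6 5 (by decide +kernel) h5
  fin_cases i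
  · exact step 0 2 (by decide +kernel) h2 f hf
  · exact step 1 3 (by decide +kernel) h3 f hf
  · exact h2 f hf
  · exact h3 f hf
  · exact h4 f hf
  · exact h5 f hf
  · exact h6 f hf
  · exact step 7 6 (by decide +kernel) h6 f hf

/-- The torus fixes the vectors fixed by the positive root subgroups. -/
theorem Small.tor_trivial {f : V} (hf : f ∈ fixU ρ ψ) (i : Fin 8) (u : Fˣ) :
    ρ (tor i u) f = f := by
  classical
  haveI : Fintype (Additive Fˣ) := Fintype.ofEquiv Fˣ Additive.ofMul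
  have hstab : ∀ (x : Fin chevE8.rank → Additive Fˣ) (v : V), v ∈ fixU ρ ψ →
      ρ (eTor (Multiplicative.ofAdd x)) v ∈ fixU ρ ψ := by
    intro x v hv
    refine maps_W ρ ψ _ (fun y hy => ⟨y, hy, _, Units.ne_zero
      (T8.chi (F := F) y fun i => (x i).toMul), fun t => Subtype.ext ?_, by simp⟩) hv
    exact good_E8.full.hT_conj (mem_posL.1 hy).2 _ t
  conv_lhs => rw [← sum_proj ρ eTor f]
  conv_rhs => rw [← sum_proj ρ eTor f]
  rw [map_sum]
  refine Finset.sum_congr rfl fun χ _ => ?_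
  by_contra hne
  have hp : proj ρ eTor χ f ∈ fixU ρ ψ := by
    rw [proj_apply]
    exact Submodule.smul_mem _ _ (Submodule.sum_mem _ fun x _ =>
      Submodule.smul_mem _ _ (hstab x f hf))
  refine H.not_nt ⟨hp, fun h0 => hne (by rw [h0, map_zero]), fun j v => ?_⟩ i ⟨u, hne⟩
  exact ⟨_, by rw [← eTor_single]; exact proj_mem ρ eTor χ f _⟩

end CfsgLib.E8MinDeg
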